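import Cfsg.Agent.Lib.Zassenhaus.Algebra
import Mathlib.LinearAlgebra.Matrix.SpecialLinearGroup
import Mathlib.Data.ZMod.Basic
import Mathlib.Tactic.Module

/-! Tables: the 120 elements of `SL(2,5)` as words in three elements of order 3, with coefficient
vectors in the algebra generated by a triple of values `1, 1, 0`. -/

set_option autoImplicit false
set_option maxRecDepth 10000
set_option synthInstance.maxSize 1000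

namespace CfsgLib.Zassenhaus.Icosa

/-- The entries of a 2 by 2 matrix over `ZMod 5`. -/
abbrev Quad := ZMod 5 × ZMod 5 × ZMod 5 × ZMod 5

/-- Coefficient vectors for the monomials `1, x, b, c, xb, xc, bc, xbc`. -/
abbrev Coef := ℤ × ℤ × ℤ × ℤ × ℤ × ℤ × ℤ × ℤ

/-- Product of matrices. -/
def qmul : Quad → Quad → Quad
  | (a, b, c, d), (e, f, g, h) => (a * e + b * g, a * f + b * h, c * e + d * g, c * f + d * h)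

/-- Inverse of a matrix of determinant 1. -/
def qinv : Quad → Quad
  | (a, b, c, d) => (d, -b, -c, a)

/-- Powers. -/
def qpow (q : Quad) : ℕ → Quad
  | 0 => (1, 0, 0, 1)
  | n + 1 => qmul (qpow q n) q

/-- The three generators. -/
def gen : Fin 3 → Quad
  | 0 => (0, 1, 4, 4)
  | 1 => (0, 2, 2, 4)
  | 2 => (2, 4, 2, 2)

/-- Right multiplication by a generator on coefficient vectors. -/
def rstep : Fin 3 → Coef → Coef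
  | 0, (c0, c1, c2, c3, c4, c5, c6, c7) =>
      (-c1 + c4 + c5 - c7, c0 - c1 - c2 - c3 + c4 + c5 + c6 - c7, -c2 + c4 + c6 - c7, -c3 + c5 - c7, -c2 + c6, -c3 + c6 - c7, -c7, c6 - c7)
  | 1, (c0, c1, c2, c3, c4, c5, c6, c7) =>
      (-c2 - c3 + c6, -c4 - c5 + c7, c0 - c2 - c3, -c3 + c6, c1 - c4 - c5, -c5 + c7, -c3, -c5)
  | 2, (c0, c1, c2, c3, c4, c5, c6, c7) =>
      (-c3, -c5, -c6, c0 - c3, -c7, c1 - c5, c2 - c6, c4 - c7)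

/-- The elements. -/
def matTable : List Quad := [
  (1, 0, 0, 1), (0, 1, 4, 4), (0, 2, 2, 4), (2, 4, 2, 2), (4, 4, 1, 0), (2, 4, 3, 4),
  (2, 2, 1, 4), (3, 3, 1, 3), (4, 3, 3, 0), (4, 4, 2, 1), (1, 3, 3, 0), (3, 0, 4, 2),
  (2, 1, 3, 2), (3, 4, 0, 2), (1, 4, 2, 4), (1, 3, 1, 4), (3, 0, 3, 2), (2, 1, 4, 0),
  (3, 0, 1, 2), (4, 2, 3, 3), (3, 2, 0, 2), (2, 0, 2, 3), (2, 3, 3, 0), (2, 1, 0, 3),
  (4, 2, 1, 2), (1, 0, 4, 1), (3, 4, 2, 3), (1, 4, 1, 0), (2, 3, 0, 3), (1, 4, 0, 1),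
  (0, 3, 3, 2), (0, 1, 4, 1), (1, 2, 2, 0), (4, 1, 3, 1), (2, 3, 4, 4), (1, 4, 3, 3),
  (3, 2, 4, 3), (4, 0, 4, 4), (1, 2, 1, 3), (3, 3, 3, 0), (0, 2, 2, 1), (2, 3, 1, 2),
  (3, 0, 0, 2), (0, 3, 3, 1), (1, 2, 0, 1), (4, 1, 0, 4), (1, 0, 3, 1), (0, 3, 3, 4),
  (0, 1, 4, 0), (3, 2, 2, 0), (4, 1, 1, 3), (3, 1, 3, 3), (4, 4, 4, 3), (0, 4, 1, 1),
  (4, 3, 0, 4), (2, 4, 0, 3), (1, 1, 0, 1), (0, 4, 1, 2), (4, 1, 2, 2), (1, 0, 1, 1),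
  (3, 2, 3, 4), (4, 1, 4, 0), (2, 0, 1, 3), (0, 1, 4, 3), (0, 2, 2, 2), (3, 2, 1, 1),
  (4, 0, 0, 4), (3, 3, 0, 2), (1, 1, 1, 2), (1, 2, 4, 4), (3, 3, 2, 4), (2, 2, 3, 1),
  (2, 2, 0, 3), (1, 3, 4, 3), (4, 3, 4, 2), (2, 2, 2, 0), (2, 4, 1, 0), (1, 1, 3, 4),
  (0, 4, 1, 4), (0, 2, 2, 3), (3, 1, 2, 1), (0, 1, 4, 2), (0, 4, 1, 0), (3, 1, 1, 4),
  (4, 0, 1, 4), (2, 0, 0, 3), (1, 3, 0, 1), (3, 3, 4, 1), (4, 3, 2, 3), (1, 1, 4, 0),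
  (0, 4, 1, 3), (0, 3, 3, 3), (2, 2, 4, 2), (3, 4, 4, 4), (4, 0, 2, 4), (1, 3, 2, 2),
  (4, 3, 1, 1), (0, 2, 2, 0), (1, 2, 3, 2), (4, 4, 0, 4), (3, 1, 0, 2), (0, 3, 3, 0),
  (4, 2, 2, 0), (1, 0, 2, 1), (3, 4, 1, 0), (1, 4, 4, 2), (2, 1, 1, 1), (2, 1, 2, 4),
  (3, 1, 4, 0), (2, 4, 4, 1), (4, 4, 3, 2), (2, 0, 3, 3), (4, 0, 3, 4), (2, 3, 2, 1),
  (3, 0, 2, 2), (4, 2, 0, 4), (4, 2, 4, 1), (2, 0, 4, 3), (1, 1, 2, 3), (3, 4, 3, 1)]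

/-- Their coefficient vectors. -/
def coefTable : List Coef := [
  (1, 0, 0, 0, 0, 0, 0, 0), (0, 1, 0, 0, 0, 0, 0, 0), (0, 0, 1, 0, 0, 0, 0, 0),
  (0, 0, 0, 1, 0, 0, 0, 0), ((-1), (-1), 0, 0, 0, 0, 0, 0), (0, 0, 0, 0, 1, 0, 0, 0),
  (0, 0, 0, 0, 0, 1, 0, 0), (0, (-1), (-1), 0, (-1), 0, 0, 0), ((-1), 0, (-1), 0, 0, 0, 0, 0),
  (0, 0, 0, 0, 0, 0, 1, 0), (0, (-1), 0, (-1), 0, (-1), 0, 0), ((-1), 0, (-1), (-1), 0, 0, (-1), 0),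
  ((-1), 0, 0, (-1), 0, 0, 0, 0), (0, 0, (-1), 0, (-1), 0, 0, 0), (0, 0, 0, (-1), 0, (-1), 0, 0),
  (1, 1, 1, 0, 0, 0, 0, 0), (0, (-1), 0, 0, (-1), 0, 0, 0), (0, 0, 0, 0, 0, 0, 0, 1),
  (1, 1, 0, 1, 0, 0, 0, 0), (0, (-1), 0, 0, (-1), (-1), 0, (-1)), (0, (-1), 0, 0, 0, (-1), 0, 0),
  (0, 1, 0, 0, 1, 0, 0, 0), (0, 0, 0, 0, 0, (-1), (-1), (-1)), (0, 0, 1, 0, 1, 0, 0, 0),
  (0, 0, 0, (-1), 0, 0, (-1), 0), (0, 1, 1, 0, 1, 1, 0, 1), (1, 0, 0, 1, 0, 0, 0, 0),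
  (0, 0, (-1), 0, 0, 0, (-1), 0), (0, 1, 0, 0, 0, 1, 0, 0), (1, 1, 1, 1, 0, 1, 1, 1),
  (0, 0, 0, 1, 0, 0, 0, (-1)), (1, 0, 1, 0, 0, 0, 1, 0), (1, 0, 1, 0, 0, 0, 0, 0),
  (0, 0, 0, 1, 0, 1, 0, 0), (1, 0, 0, 1, 0, 0, 1, 0), ((-1), 0, 0, 0, 1, 0, 0, 0),
  (1, 1, 1, 0, 1, 0, 0, 0), (0, 0, 0, 0, 0, 0, (-1), (-1)), ((-1), 0, 0, 0, 0, 1, 0, 0),
  (1, 1, 1, 1, 1, 1, 1, 1), (1, 1, 0, 1, 0, 1, 0, 0), ((-1), (-1), (-1), 0, (-1), 0, 0, 0),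
  (0, 0, 0, 1, 0, 1, 1, 0), (0, 0, (-1), 0, 0, 0, 0, 0), (0, 0, 0, 0, 0, (-1), 0, (-1)),
  ((-1), (-1), (-1), (-1), 0, (-1), (-1), (-1)), (0, 0, 0, 0, (-1), 0, 0, (-1)), ((-1), (-1), 0, (-1), 0, (-1), 0, 0),
  ((-1), 0, 0, (-1), 1, 0, (-1), 0), (0, 0, 0, 0, 0, 1, 1, 1), (0, 1, 0, 0, 1, 0, 0, 1),
  (0, 0, 0, (-1), 0, 0, 0, 0), (0, 1, 0, 0, 0, 1, 0, 1), (0, (-1), 0, 0, 0, 0, 0, 0),
  (0, 0, 0, 0, 0, 1, 0, 1), (0, (-1), 0, 0, (-1), 0, 1, 0), ((-1), 0, 0, (-1), 1, 0, 0, 1),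
  (0, 1, 1, 0, 1, 1, 1, 1), (1, 0, 0, 0, (-1), 0, 0, 0), (0, 0, 0, 0, 0, 0, 1, 1),
  (0, 0, (-1), 1, (-1), 0, 0, (-1)), (0, 0, 1, 0, 0, 0, 1, 0), (1, 0, 1, 1, 0, 0, 1, 0),
  (0, (-1), (-1), 0, (-1), (-1), (-1), (-1)), ((-1), (-1), (-1), 0, (-1), 0, 0, (-1)), ((-1), 0, 0, (-1), 0, 0, (-1), 0),
  ((-1), 0, 0, 0, 0, 0, 0, 0), (0, 0, 1, (-1), 0, 0, 0, 0), (0, (-1), 0, 0, 0, (-1), 0, (-1)),
  ((-1), (-1), (-1), (-1), 0, (-1), (-1), 0), ((-1), 0, (-1), 0, 0, 0, (-1), (-1)), (1, 0, 1, 0, 0, 0, 1, 1),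
  (0, 0, (-1), 1, 0, 0, 0, 0), (0, 0, 0, 1, 0, 0, 1, 0), (1, 0, 0, 0, 0, (-1), 0, 0),
  ((-1), (-1), (-1), (-1), (-1), (-1), (-1), (-1)), (0, 1, 1, (-1), 1, 0, 0, 1), (0, 0, 0, 0, 0, 0, (-1), 0),
  ((-1), 0, (-1), 0, 0, 0, (-1), 0), (0, 0, 0, (-1), 0, 0, 0, 1), (0, 0, 0, 0, (-1), 0, 0, 0),
  (0, 0, 0, 1, 0, 1, 1, 1), (1, 0, 0, 1, (-1), 0, 1, 0), (0, 0, 1, 0, 1, 0, 1, 1),
  (0, (-1), (-1), 0, (-1), (-1), 0, (-1)), (0, 0, 0, (-1), 0, (-1), (-1), 0), ((-1), (-1), (-1), 0, (-1), 0, (-1), (-1)),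
  (0, 0, 0, 0, 0, (-1), 0, 0), ((-1), (-1), 0, (-1), 0, (-1), (-1), (-1)), (1, 1, 0, 0, 0, 0, 0, 0),
  (0, 0, 0, (-1), 0, (-1), (-1), (-1)), (1, 1, 1, 0, 1, 0, 0, 1), (0, 1, 1, 0, 1, 0, 0, 0),
  (0, 0, 1, 0, 0, 1, 1, 1), (0, 0, 0, 0, 1, 0, 0, 1), (0, 1, 0, 0, 1, 1, 0, 1),
  (1, 1, 1, 1, 0, 1, 1, 0), (0, 0, 0, 0, 1, (-1), 0, 0), (1, 1, 0, 1, 0, 1, 1, 1),
  (1, 0, 0, 1, (-1), 0, 0, (-1)), (0, 1, 0, 0, 1, 0, (-1), 0), (0, 0, 0, 0, (-1), 1, 0, 0),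
  (0, 1, 0, 1, 0, 1, 0, 0), ((-1), (-1), (-1), 0, 0, (-1), (-1), (-1)), (0, 0, 0, 0, 0, 0, 0, (-1)),
  (0, (-1), 0, 0, (-1), 0, 0, (-1)), (0, 0, (-1), 0, 0, (-1), (-1), (-1)), (1, 0, 0, 1, (-1), 1, 1, 0),
  (0, (-1), (-1), 1, (-1), 0, 0, (-1)), (0, 0, (-1), 0, (-1), 0, (-1), (-1)), (0, 0, 0, (-1), 1, (-1), (-1), 0),
  (0, 0, (-1), 1, (-1), 1, 0, 0), (1, 1, 1, 0, 0, 1, 1, 1), (0, 0, 1, (-1), 1, 0, 0, 1),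
  (0, 0, 1, (-1), 1, (-1), 0, 0), (1, 1, 1, 0, 1, 0, 1, 1), ((-1), (-1), (-1), 0, 0, 0, 0, 0),
  ((-1), (-1), 0, (-1), 0, 0, 0, 0), (0, 0, 0, 1, (-1), 1, 1, 0), ((-1), 0, 0, (-1), 1, (-1), (-1), 0)]

/-- Their products with the generators. -/
def nextTable : List (Fin 120 × Fin 120 × Fin 120) := [
  (1, 2, 3), (4, 5, 6), (7, 8, 9), (10, 11, 12), (0, 13, 14), (15, 16, 17), (18, 19, 20), (21, 15, 22),
  (23, 0, 24), (25, 26, 27), (28, 29, 18), (30, 31, 32), (33, 34, 0), (35, 36, 37), (38, 39, 40), (41, 35, 42),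
  (43, 1, 44), (45, 28, 46), (47, 48, 38), (49, 50, 21), (51, 52, 1), (2, 53, 54), (55, 56, 57), (58, 41, 59),
  (60, 61, 62), (63, 64, 55), (14, 65, 66), (44, 67, 2), (3, 68, 53), (69, 70, 64), (71, 69, 56), (52, 3, 72),
  (13, 66, 73), (74, 75, 47), (76, 77, 78), (32, 7, 79), (80, 4, 81), (82, 47, 83), (26, 84, 10), (85, 86, 41),
  (87, 88, 4), (5, 89, 90), (91, 63, 69), (92, 32, 77), (93, 94, 95), (96, 71, 91), (81, 97, 5), (6, 98, 89),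
  (99, 55, 71), (100, 99, 63), (88, 6, 101), (102, 62, 26), (103, 104, 105), (89, 80, 87), (106, 46, 19), (95, 18, 106),
  (37, 107, 58), (77, 108, 7), (8, 92, 30), (48, 40, 109), (83, 110, 48), (54, 72, 43), (79, 78, 8), (9, 76, 92),
  (39, 74, 110), (108, 9, 31), (53, 43, 51), (111, 73, 34), (112, 17, 50), (104, 112, 15), (62, 10, 113), (11, 102, 60),
  (114, 24, 65), (113, 27, 11), (12, 25, 102), (42, 115, 36), (86, 42, 107), (84, 12, 61), (68, 51, 67), (70, 96, 99),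
  (116, 21, 104), (110, 109, 75), (56, 100, 70), (24, 111, 13), (57, 91, 100), (64, 57, 96), (34, 14, 114), (117, 95, 28),
  (107, 59, 115), (66, 23, 33), (118, 83, 39), (75, 38, 118), (16, 116, 49), (27, 60, 84), (90, 101, 80), (22, 105, 16),
  (17, 103, 116), (67, 54, 52), (119, 37, 86), (59, 119, 35), (19, 117, 93), (72, 44, 68), (20, 45, 117), (31, 79, 76),
  (29, 20, 94), (98, 87, 97), (61, 113, 25), (50, 22, 103), (115, 85, 119), (73, 114, 23), (46, 93, 29), (97, 90, 88),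
  (78, 30, 108), (109, 118, 82), (101, 81, 98), (65, 33, 111), (36, 58, 85), (40, 82, 74), (94, 106, 45), (105, 49, 112)]

/-- Their words. -/
def wordTable : List (List (Fin 3)) := [
  [], [0], [1], [2], [0, 0], [0, 1],
  [0, 2], [1, 0], [1, 1], [1, 2], [2, 0], [2, 1],
  [2, 2], [0, 0, 1], [0, 0, 2], [0, 1, 0], [0, 1, 1], [0, 1, 2],
  [0, 2, 0], [0, 2, 1], [0, 2, 2], [1, 0, 0], [1, 0, 2], [1, 1, 0],
  [1, 1, 2], [1, 2, 0], [1, 2, 1], [1, 2, 2], [2, 0, 0], [2, 0, 1],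
  [2, 1, 0], [2, 1, 1], [2, 1, 2], [2, 2, 0], [2, 2, 1], [0, 0, 1, 0],
  [0, 0, 1, 1], [0, 0, 1, 2], [0, 0, 2, 0], [0, 0, 2, 1], [0, 0, 2, 2], [0, 1, 0, 0],
  [0, 1, 0, 2], [0, 1, 1, 0], [0, 1, 1, 2], [0, 1, 2, 0], [0, 1, 2, 2], [0, 2, 0, 0],
  [0, 2, 0, 1], [0, 2, 1, 0], [0, 2, 1, 1], [0, 2, 2, 0], [0, 2, 2, 1], [1, 0, 0, 1],
  [1, 0, 0, 2], [1, 0, 2, 0], [1, 0, 2, 1], [1, 0, 2, 2], [1, 1, 0, 0], [1, 1, 0, 2],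
  [1, 1, 2, 0], [1, 1, 2, 1], [1, 1, 2, 2], [1, 2, 0, 0], [1, 2, 0, 1], [1, 2, 1, 1],
  [1, 2, 1, 2], [1, 2, 2, 1], [2, 0, 0, 1], [2, 0, 1, 0], [2, 0, 1, 1], [2, 1, 0, 0],
  [2, 1, 1, 2], [2, 1, 2, 2], [2, 2, 0, 0], [2, 2, 0, 1], [2, 2, 1, 0], [2, 2, 1, 1],
  [2, 2, 1, 2], [0, 0, 1, 0, 2], [0, 0, 1, 1, 0], [0, 0, 1, 1, 2], [0, 0, 1, 2, 0], [0, 0, 1, 2, 2],
  [0, 0, 2, 0, 1], [0, 0, 2, 1, 0], [0, 0, 2, 1, 1], [0, 0, 2, 2, 0], [0, 0, 2, 2, 1], [0, 1, 0, 0, 1],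
  [0, 1, 0, 0, 2], [0, 1, 0, 2, 0], [0, 1, 1, 0, 0], [0, 1, 1, 2, 0], [0, 1, 1, 2, 1], [0, 1, 1, 2, 2],
  [0, 1, 2, 0, 0], [0, 1, 2, 2, 1], [0, 2, 0, 0, 1], [0, 2, 0, 1, 0], [0, 2, 1, 0, 0], [0, 2, 1, 1, 2],
  [0, 2, 2, 0, 0], [0, 2, 2, 1, 0], [0, 2, 2, 1, 1], [0, 2, 2, 1, 2], [1, 0, 0, 2, 0], [1, 0, 2, 1, 1],
  [1, 0, 2, 2, 1], [1, 1, 0, 2, 2], [1, 1, 2, 0, 1], [1, 2, 2, 1, 0], [2, 0, 0, 1, 0], [2, 0, 1, 1, 2],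
  [2, 1, 1, 2, 0], [2, 2, 0, 1, 1], [0, 0, 1, 1, 0, 0], [0, 0, 2, 2, 0, 0], [0, 1, 0, 0, 2, 0], [0, 2, 0, 0, 1, 0]]

/-- A witness that the normal closure of an element contains `-1`. -/
def witTable : List (Bool × Fin 120 × ℕ) := [
  (false, 0, 0), (false, 2, 3), (false, 1, 3), (false, 1, 3), (false, 2, 3), (true, 0, 3),
  (true, 0, 3), (true, 0, 3), (false, 1, 3), (true, 0, 2), (true, 0, 3), (true, 0, 2),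
  (false, 1, 3), (true, 0, 2), (true, 0, 2), (true, 0, 2), (true, 0, 2), (false, 1, 3),
  (true, 0, 2), (false, 1, 3), (true, 0, 2), (true, 0, 2), (false, 1, 3), (true, 0, 2),
  (true, 0, 3), (false, 1, 3), (true, 0, 3), (true, 0, 3), (true, 0, 2), (false, 1, 3),
  (false, 1, 3), (true, 0, 3), (true, 0, 3), (true, 0, 2), (true, 0, 3), (false, 1, 3),
  (true, 0, 3), (true, 0, 5), (false, 1, 3), (true, 0, 5), (true, 0, 3), (false, 1, 3),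
  (true, 0, 2), (true, 0, 3), (false, 1, 5), (true, 0, 5), (false, 1, 5), (false, 1, 3),
  (true, 0, 2), (true, 0, 5), (false, 1, 5), (true, 0, 3), (false, 1, 5), (true, 0, 3),
  (true, 0, 5), (true, 0, 2), (false, 1, 3), (false, 1, 3), (true, 0, 3), (false, 1, 3),
  (false, 1, 5), (false, 1, 2), (true, 0, 2), (true, 0, 5), (false, 1, 3), (false, 1, 2),
  (true, 0, 1), (true, 0, 2), (true, 0, 5), (true, 0, 2), (false, 1, 3), (true, 0, 5),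
  (true, 0, 2), (false, 1, 2), (true, 0, 3), (false, 1, 3), (false, 1, 5), (true, 0, 2),
  (false, 1, 2), (true, 0, 5), (false, 1, 3), (false, 1, 5), (true, 0, 2), (false, 1, 5),
  (true, 0, 5), (true, 0, 2), (false, 1, 5), (false, 1, 3), (false, 1, 5), (true, 0, 3),
  (true, 0, 5), (true, 0, 5), (false, 1, 3), (false, 1, 5), (true, 0, 5), (true, 0, 5),
  (true, 0, 2), (true, 0, 2), (true, 0, 5), (true, 0, 5), (true, 0, 2), (true, 0, 2),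
  (false, 1, 3), (false, 1, 5), (true, 0, 5), (true, 0, 5), (true, 0, 5), (true, 0, 3),
  (true, 0, 5), (true, 0, 5), (true, 0, 3), (true, 0, 2), (true, 0, 5), (true, 0, 5),
  (true, 0, 2), (true, 0, 5), (true, 0, 2), (true, 0, 2), (false, 1, 2), (false, 1, 2)]

/-- The number of a matrix. -/
def idxTable : List (List (List (List (Fin 120)))) := [
  [[[0, 0, 0, 0, 0], [0, 0, 0, 0, 0], [0, 0, 0, 0, 0], [0, 0, 0, 0, 0], [0, 0, 0, 0, 0]],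
   [[0, 0, 0, 0, 0], [0, 0, 0, 0, 0], [0, 0, 0, 0, 0], [0, 0, 0, 0, 0], [48, 31, 81, 63, 1]],
   [[0, 0, 0, 0, 0], [0, 0, 0, 0, 0], [97, 40, 64, 79, 2], [0, 0, 0, 0, 0], [0, 0, 0, 0, 0]],
   [[0, 0, 0, 0, 0], [0, 0, 0, 0, 0], [0, 0, 0, 0, 0], [101, 43, 30, 91, 47], [0, 0, 0, 0, 0]],
   [[0, 0, 0, 0, 0], [82, 53, 57, 90, 78], [0, 0, 0, 0, 0], [0, 0, 0, 0, 0], [0, 0, 0, 0, 0]]],
  [[[0, 0, 0, 0, 0], [0, 59, 0, 0, 0], [0, 103, 0, 0, 0], [0, 46, 0, 0, 0], [0, 25, 0, 0, 0]],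
   [[0, 56, 0, 0, 0], [0, 0, 68, 0, 0], [0, 0, 0, 118, 0], [0, 0, 0, 0, 77], [89, 0, 0, 0, 0]],
   [[0, 44, 0, 0, 0], [0, 0, 0, 38, 0], [32, 0, 0, 0, 0], [0, 0, 98, 0, 0], [0, 0, 0, 0, 69]],
   [[0, 86, 0, 0, 0], [0, 0, 0, 0, 15], [0, 0, 95, 0, 0], [10, 0, 0, 0, 0], [0, 0, 0, 73, 0]],
   [[0, 29, 0, 0, 0], [27, 0, 0, 0, 0], [0, 0, 0, 0, 14], [0, 0, 0, 35, 0], [0, 0, 105, 0, 0]]],
  [[[0, 0, 0, 85, 0], [0, 0, 0, 62, 0], [0, 0, 0, 21, 0], [0, 0, 0, 111, 0], [0, 0, 0, 117, 0]],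
   [[0, 0, 0, 23, 0], [0, 106, 0, 0, 0], [0, 0, 0, 0, 107], [0, 0, 12, 0, 0], [17, 0, 0, 0, 0]],
   [[0, 0, 0, 72, 0], [0, 0, 0, 0, 6], [75, 0, 0, 0, 0], [0, 71, 0, 0, 0], [0, 0, 92, 0, 0]],
   [[0, 0, 0, 28, 0], [0, 0, 41, 0, 0], [0, 113, 0, 0, 0], [22, 0, 0, 0, 0], [0, 0, 0, 0, 34]],
   [[0, 0, 0, 55, 0], [76, 0, 0, 0, 0], [0, 0, 3, 0, 0], [0, 0, 0, 0, 5], [0, 109, 0, 0, 0]]],
  [[[0, 0, 42, 0, 0], [0, 0, 18, 0, 0], [0, 0, 114, 0, 0], [0, 0, 16, 0, 0], [0, 0, 11, 0, 0]],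
   [[0, 0, 100, 0, 0], [0, 0, 0, 0, 83], [0, 80, 0, 0, 0], [0, 0, 0, 51, 0], [108, 0, 0, 0, 0]],
   [[0, 0, 20, 0, 0], [0, 65, 0, 0, 0], [49, 0, 0, 0, 0], [0, 0, 0, 0, 60], [0, 0, 0, 36, 0]],
   [[0, 0, 67, 0, 0], [0, 0, 0, 7, 0], [0, 0, 0, 0, 70], [39, 0, 0, 0, 0], [0, 87, 0, 0, 0]],
   [[0, 0, 13, 0, 0], [104, 0, 0, 0, 0], [0, 0, 0, 26, 0], [0, 119, 0, 0, 0], [0, 0, 0, 0, 93]]],
  [[[0, 0, 0, 0, 66], [0, 0, 0, 0, 84], [0, 0, 0, 0, 94], [0, 0, 0, 0, 112], [0, 0, 0, 0, 37]],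
   [[0, 0, 0, 0, 45], [0, 0, 0, 50, 0], [0, 0, 58, 0, 0], [0, 33, 0, 0, 0], [61, 0, 0, 0, 0]],
   [[0, 0, 0, 0, 115], [0, 0, 24, 0, 0], [102, 0, 0, 0, 0], [0, 0, 0, 19, 0], [0, 116, 0, 0, 0]],
   [[0, 0, 0, 0, 54], [0, 96, 0, 0, 0], [0, 0, 0, 88, 0], [8, 0, 0, 0, 0], [0, 0, 74, 0, 0]],
   [[0, 0, 0, 0, 99], [4, 0, 0, 0, 0], [0, 9, 0, 0, 0], [0, 0, 110, 0, 0], [0, 0, 0, 52, 0]]]]

/-- The element with number `i`. -/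
def mat (i : Fin 120) : Quad := matTable.getD i (1, 0, 0, 1)

/-- Its coefficient vector. -/
def coef (i : Fin 120) : Coef := coefTable.getD i (1, 0, 0, 0, 0, 0, 0, 0)

/-- Its word. -/
def word (i : Fin 120) : List (Fin 3) := wordTable.getD i []

/-- Its product with a generator. -/
def next (i : Fin 120) : Fin 3 → Fin 120
  | 0 => (nextTable.getD i (0, 0, 0)).1
  | 1 => (nextTable.getD i (0, 0, 0)).2.1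
  | 2 => (nextTable.getD i (0, 0, 0)).2.2

/-- The number of a matrix. -/
def idx : Quad → Fin 120
  | (a, b, c, d) => (((idxTable.getD a.val []).getD b.val []).getD c.val []).getD d.val 0

/-- The element whose power is `-1`. -/
def witness (i : Fin 120) : Quad :=
  let w := witTable.getD i (false, 0, 0)
  qpow (if w.1 then mat i else qmul (mat i) (qmul (mat w.2.1) (qmul (mat i) (qinv (mat w.2.1)))))
    w.2.2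

theorem mat_zero : mat 0 = (1, 0, 0, 1) := by decide +kernel

theorem coef_zero : coef 0 = (1, 0, 0, 0, 0, 0, 0, 0) := by decide +kernel

theorem coef_minus : coef (idx (-1, 0, 0, -1)) = (-1, 0, 0, 0, 0, 0, 0, 0) := by decide +kernel

theorem mat_idx : ∀ a b c d : ZMod 5, a * d - b * c = 1 → mat (idx (a, b, c, d)) = (a, b, c, d) := by
  decide +kernel

theorem idx_mat : ∀ i, idx (mat i) = i := by decide +kernel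

theorem mat_next : ∀ i s, mat (next i s) = qmul (mat i) (gen s) := by decide +kernel

theorem coef_next : ∀ i s, coef (next i s) = rstep s (coef i) := by decide +kernel

theorem word_spec : ∀ i, (word i).foldl next 0 = i := by decide +kernel

theorem witness_spec : ∀ i, i ≠ 0 → witness i = (-1, 0, 0, -1) := by decide +kernel

/-- A matrix of order 3. -/
abbrev QThree (q : Quad) : Prop := q ≠ (1, 0, 0, 1) ∧ qpow q 3 = (1, 0, 0, 1)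

theorem three_conj : ∀ i, QThree (mat i) →
    ∃ h, qmul (mat h) (gen 0) = qmul (mat i) (mat h) := by decide +kernel

theorem three_pair : ∀ j, QThree (mat j) → qpow (qmul (gen 0) (mat j)) 3 = (-1, 0, 0, -1) →
    ∀ k, QThree (mat k) → qpow (qmul (gen 0) (mat k)) 3 = (-1, 0, 0, -1) →
      qpow (qmul (mat j) (mat k)) 2 = (-1, 0, 0, -1) →
      ∃ h, qmul (mat h) (gen 0) = qmul (gen 0) (mat h) ∧
        ((qmul (mat h) (gen 1) = qmul (mat j) (mat h) ∧ qmul (mat h) (gen 2) = qmul (mat k) (mat h)) ∨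
         (qmul (mat h) (gen 2) = qmul (mat j) (mat h) ∧ qmul (mat h) (gen 1) = qmul (mat k) (mat h))) := by
  decide +kernel

theorem three_not_central : ∀ i, QThree (mat i) →
    ∃ s, qmul (mat i) (gen s) ≠ qmul (gen s) (mat i) := by decide +kernel

end CfsgLib.Zassenhaus.Icosa
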