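import Cfsg.Agent.Lib.Zassenhaus.Graph
import Cfsg.Agent.Lib.Zassenhaus.IcosaTable

/-! A triple of values `1, 1, 0` generates a copy of `SL(2,5)`. -/

namespace CfsgLib.Zassenhaus.Icosa

/-- The group. -/
abbrev SL25 := Matrix.SpecialLinearGroup (Fin 2) (ZMod 5)

/-- The entries. -/
def quad (g : SL25) : Quad := (g.1 0 0, g.1 0 1, g.1 1 0, g.1 1 1)

/-- The generators in the group. -/
def gsl : Fin 3 → SL25
  | 0 => ⟨!![(gen 0).1, (gen 0).2.1; (gen 0).2.2.1, (gen 0).2.2.2], by rw [Matrix.det_fin_two_of]; decide +kernel⟩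
  | 1 => ⟨!![(gen 1).1, (gen 1).2.1; (gen 1).2.2.1, (gen 1).2.2.2], by rw [Matrix.det_fin_two_of]; decide +kernel⟩
  | 2 => ⟨!![(gen 2).1, (gen 2).2.1; (gen 2).2.2.1, (gen 2).2.2.2], by rw [Matrix.det_fin_two_of]; decide +kernel⟩

theorem quad_injective : Function.Injective quad := by
  intro g h he
  simp only [quad, Prod.mk.injEq] at he
  ext i j
  fin_cases i <;> fin_cases j <;> simp [he]

theorem quad_gsl (s : Fin 3) : quad (gsl s) = gen s := by
  fin_cases s <;> simp [quad, gsl]

theorem quad_mul (g h : SL25) : quad (g * h) = qmul (quad g) (quad h) := by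
  simp [quad, qmul, Matrix.mul_apply, Fin.sum_univ_two]

theorem quad_one : quad 1 = (1, 0, 0, 1) := by simp [quad]

theorem quad_neg_one : quad (-1) = (-1, 0, 0, -1) := by simp [quad]

theorem quad_inv (g : SL25) : quad g⁻¹ = qinv (quad g) := by
  simp [quad, qinv, Matrix.SpecialLinearGroup.coe_inv, Matrix.adjugate_fin_two]

theorem quad_pow (g : SL25) : ∀ n : ℕ, quad (g ^ n) = qpow (quad g) n
  | 0 => by rw [pow_zero, quad_one]; rfl
  | n + 1 => by rw [pow_succ, quad_mul, quad_pow g n]; rfl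

theorem mat_idx' (g : SL25) : mat (idx (quad g)) = quad g :=
  mat_idx _ _ _ _ (by rw [← Matrix.det_fin_two]; exact g.2)

theorem idx_injective : Function.Injective fun g : SL25 => idx (quad g) := fun g h he =>
  quad_injective (by rw [← mat_idx' g, ← mat_idx' h]; exact congrArg mat he)

theorem next_idx (g : SL25) (s : Fin 3) : next (idx (quad g)) s = idx (quad (g * gsl s)) := by
  rw [← idx_mat (next (idx (quad g)) s), mat_next, mat_idx', quad_mul, quad_gsl]

theorem foldl_next (w : List (Fin 3)) :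
    ∀ g : SL25, w.foldl next (idx (quad g)) = idx (quad (g * (w.map gsl).prod)) := by
  induction w with
  | nil => intro g; simp
  | cons s w ih =>
    intro g
    rw [List.foldl_cons, next_idx, ih, List.map_cons, List.prod_cons, mul_assoc]

theorem idx_one : idx (quad 1) = 0 := by rw [quad_one, ← mat_zero, idx_mat]

theorem eq_prod_word (g : SL25) : g = ((word (idx (quad g))).map gsl).prod := by
  refine idx_injective ?_
  have h := foldl_next (word (idx (quad g))) 1
  rw [one_mul, idx_one, word_spec] at h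
  exact h

/-- The value of a coefficient vector. -/
def eval {A : Type*} [Ring A] (X B C : A) : Coef → A
  | (c0, c1, c2, c3, c4, c5, c6, c7) => c0 • (1 : A) + c1 • X + c2 • B + c3 • C + c4 • (X * B) +
      c5 • (X * C) + c6 • (B * C) + c7 • (X * B * C)

theorem eval_rstep {A : Type*} [Ring A] {X B C : A} (hX : Omega X) (hB : Omega B) (hC : Omega C)
    (hXB : pairVal X B = 1) (hXC : pairVal X C = 1) (hBC : pairVal B C = 0) (v : Coef) :
    ∀ s : Fin 3, eval X B C (rstep s v) = eval X B C v * ![X, B, C] s := by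
  obtain ⟨c0, c1, c2, c3, c4, c5, c6, c7⟩ := v
  have r1 := swap_rule hXB
  have r2 := swap_rule hXC
  have r3 := swap_rule hBC
  have r1' := swap_rule_assoc hXB
  have r2' := swap_rule_assoc hXC
  have r3' := swap_rule_assoc hBC
  intro s
  fin_cases s <;>
  · simp only [rstep, eval, Matrix.cons_val_zero, Matrix.cons_val_one, Matrix.cons_val, Fin.isValue,
      Fin.mk_one, Fin.zero_eta, Fin.reduceFinMk, add_mul, smul_mul_assoc, mul_assoc, one_mul,
      r1, r2, r3, r1', r2', r3', hX.eq', hB.eq', hC.eq', hX.assoc, hB.assoc, hC.assoc,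
      mul_add, mul_sub, sub_mul, mul_neg, neg_mul, mul_one, zero_mul, mul_zero, smul_add, smul_sub,
      smul_neg]
    module

theorem exists_quad_eq (i : Fin 120) : ∃ g : SL25, quad g = mat i := by
  refine ⟨((word i).map gsl).prod, ?_⟩
  have h := foldl_next (word i) 1
  rw [one_mul, idx_one, word_spec] at h
  rw [← mat_idx', ← h]

theorem qthree (g : SL25) (h1 : g ≠ 1) (h3 : g ^ 3 = 1) : QThree (mat (idx (quad g))) := by
  rw [mat_idx']
  exact ⟨fun h => h1 (quad_injective (h.trans quad_one.symm)), by rw [← quad_pow, h3, quad_one]⟩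

/-- No element of order 3 is central. -/
theorem exists_gsl_not_commute (g : SL25) (h1 : g ≠ 1) (h3 : g ^ 3 = 1) :
    ∃ s, g * gsl s ≠ gsl s * g := by
  obtain ⟨s, hs⟩ := three_not_central _ (qthree g h1 h3)
  refine ⟨s, fun h => hs ?_⟩
  rw [mat_idx', ← quad_gsl, ← quad_mul, ← quad_mul, h]

/-- The triples form two conjugacy classes. -/
theorem triple_orbit {a b c : SL25} (ha : a ≠ 1 ∧ a ^ 3 = 1) (hb : b ≠ 1 ∧ b ^ 3 = 1)
    (hc : c ≠ 1 ∧ c ^ 3 = 1) (hab : (a * b) ^ 3 = -1) (hac : (a * c) ^ 3 = -1)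
    (hbc : (b * c) ^ 2 = -1) :
    ∃ h, h * gsl 0 * h⁻¹ = a ∧ ((h * gsl 1 * h⁻¹ = b ∧ h * gsl 2 * h⁻¹ = c) ∨
      (h * gsl 2 * h⁻¹ = b ∧ h * gsl 1 * h⁻¹ = c)) := by
  obtain ⟨i, hi⟩ := three_conj _ (qthree a ha.1 ha.2)
  obtain ⟨h₁, hh₁⟩ := exists_quad_eq i
  rw [← hh₁, mat_idx', ← quad_gsl, ← quad_mul, ← quad_mul] at hi
  have ha0 : h₁ * gsl 0 * h₁⁻¹ = a := by rw [quad_injective hi, mul_inv_cancel_right]
  have ha1 : h₁⁻¹ * a * h₁⁻¹⁻¹ = gsl 0 := by rw [← ha0]; group
  set e := MulAut.conj h₁⁻¹ with he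
  have ea : e a = gsl 0 := ha1
  have ne1 : ∀ z : SL25, z ≠ 1 → e z ≠ 1 := fun z hz hh => hz (e.injective (hh.trans (map_one e).symm))
  have pw : ∀ z : SL25, ∀ n : ℕ, z ^ n = -1 → (e z) ^ n = -1 := fun z n hz => by
    rw [← map_pow, hz, he, MulAut.conj_apply, mul_neg_one, neg_mul, mul_inv_cancel]
  have qp : ∀ z : SL25, ∀ n : ℕ, z ^ n = -1 → qpow (quad z) n = (-1, 0, 0, -1) := fun z n hz => by
    rw [← quad_pow, hz, quad_neg_one]
  obtain ⟨j, hj0, hj⟩ := three_pair _ (qthree (e b) (ne1 b hb.1) (by rw [← map_pow, hb.2, map_one]))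
    (by rw [mat_idx', ← quad_gsl, ← ea, ← quad_mul, ← map_mul]; exact qp _ _ (pw _ _ hab))
    _ (qthree (e c) (ne1 c hc.1) (by rw [← map_pow, hc.2, map_one]))
    (by rw [mat_idx', ← quad_gsl, ← ea, ← quad_mul, ← map_mul]; exact qp _ _ (pw _ _ hac))
    (by rw [mat_idx', mat_idx', ← quad_mul, ← map_mul]; exact qp _ _ (pw _ _ hbc))
  obtain ⟨h₂, hh₂⟩ := exists_quad_eq j
  simp only [← hh₂, mat_idx', ← quad_gsl, ← quad_mul] at hj0 hj
  have back : ∀ u z : SL25, quad (h₂ * u) = quad (e z * h₂) → h₁ * h₂ * u * (h₁ * h₂)⁻¹ = z := by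
    intro u z hu
    rw [mul_assoc h₁ h₂ u, quad_injective hu, he, MulAut.conj_apply]
    group
  refine ⟨h₁ * h₂, ?_, ?_⟩
  · refine back _ _ ?_
    rw [ea]; exact hj0
  · rcases hj with ⟨u, v⟩ | ⟨u, v⟩
    · exact Or.inl ⟨back _ _ u, back _ _ v⟩
    · exact Or.inr ⟨back _ _ u, back _ _ v⟩

variable {G : Type*} [Group G] [Finite G] {K : Type*} [Field K] [CharZero K] [IsAlgClosed K]
  [Algebra.IsAlgebraic ℚ K]
  {V : Type*} [AddCommGroup V] [Module K V] [FiniteDimensional K V] [Nontrivial V]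
  {φ : G →* Module.End K V}

/-- A triple of values `1, 1, 0` gives an embedding of `SL(2,5)`. -/
theorem exists_embedding (hF : FPF φ) {x b c : G} (hx : IsThree x) (hb : IsThree b) (hc : IsThree c)
    (hxb : pv φ x b = 1) (hxc : pv φ x c = 1) (hbc : pv φ b c = 0) :
    ∃ θ : SL25 →* G, Function.Injective θ ∧ (∀ s, θ (gsl s) = ![x, b, c] s) ∧
      θ.range = Subgroup.closure (Set.range ![x, b, c]) ∧ φ (θ (-1)) = -1 := by
  set sg : Fin 3 → G := ![x, b, c] with hsg
  set f : Fin 120 → Module.End K V := fun i => eval (φ x) (φ b) (φ c) (coef i) with hf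
  have hstep : ∀ i s, f (next i s) = f i * φ (sg s) := by
    intro i s
    simp only [hf, coef_next]
    rw [eval_rstep (hF.omega hx.1 hx.2) (hF.omega hb.1 hb.2) (hF.omega hc.1 hc.2) hxb hxc hbc]
    congr 1
    fin_cases s <;> rfl
  have hfold : ∀ (w : List (Fin 3)) (i : Fin 120),
      f (w.foldl next i) = f i * φ (w.map sg).prod := by
    intro w
    induction w with
    | nil => intro i; simp
    | cons s w ih =>
      intro i
      rw [List.foldl_cons, ih, hstep, List.map_cons, List.prod_cons, map_mul, mul_assoc]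
  have hf0 : f (idx (quad 1)) = 1 := by simp [hf, idx_one, coef_zero, eval]
  set t : SL25 → G := fun g => ((word (idx (quad g))).map sg).prod with ht
  have hft : ∀ h, f (idx (quad h)) = φ (t h) := by
    intro h
    have := hfold (word (idx (quad h))) (idx (quad 1))
    rw [hf0, one_mul, idx_one, word_spec] at this
    exact this
  have hmul : ∀ g h, t (g * h) = t g * t h := by
    intro g h
    apply hF.injective
    rw [← hft, map_mul]
    conv_lhs => rw [eq_prod_word h, ← foldl_next, hfold, hft g]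
  set θ := MonoidHom.mk' t hmul with hθ
  have hgen : ∀ s, θ (gsl s) = sg s := by
    intro s
    apply hF.injective
    show φ (t (gsl s)) = φ (sg s)
    rw [← hft, ← one_mul (gsl s), ← next_idx, hstep, hf0, one_mul]
  have hminus : φ (θ (-1)) = -1 := by
    show φ (t (-1)) = -1
    rw [← hft, quad_neg_one]
    simp [hf, coef_minus, eval]
  have hrange : θ.range = Subgroup.closure (Set.range sg) := by
    apply le_antisymm
    · rintro _ ⟨g, rfl⟩
      show t g ∈ _
      refine list_prod_mem fun a ha => ?_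
      obtain ⟨s, -, rfl⟩ := List.mem_map.mp ha
      exact Subgroup.subset_closure ⟨s, rfl⟩
    · rw [Subgroup.closure_le]
      rintro _ ⟨s, rfl⟩
      exact ⟨gsl s, hgen s⟩
  refine ⟨θ, ?_, hgen, hrange, hminus⟩
  rw [injective_iff_map_eq_one]
  intro g hg
  by_contra hne
  have hi : idx (quad g) ≠ 0 := fun he => hne (idx_injective (by simp only [he, idx_one]))
  have hw := witness_spec _ hi
  simp only [witness, mat_idx'] at hw
  set w := witTable.getD (idx (quad g) : ℕ) (false, 0, 0) with hwdef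
  have key : ∀ q : SL25, θ q = 1 → qpow (quad q) w.2.2 = (-1, 0, 0, -1) → False := by
    intro q hq hp
    rw [← quad_pow, ← quad_neg_one] at hp
    rw [← quad_injective hp, map_pow, hq, one_pow, map_one] at hminus
    exact neg_one_ne_one' (K := K) (V := V) hminus.symm
  by_cases hflag : w.1 = true
  · rw [if_pos hflag] at hw
    exact key g hg hw
  · rw [if_neg hflag] at hw
    obtain ⟨h, hh⟩ : ∃ h : SL25, quad h = mat w.2.1 := by
      refine ⟨((word w.2.1).map gsl).prod, ?_⟩
      have h' := foldl_next (word w.2.1) 1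
      rw [one_mul, idx_one, word_spec] at h'
      rw [← mat_idx', ← h']
    refine key (g * (h * (g * h⁻¹))) ?_ ?_
    · rw [map_mul, map_mul, map_mul, hg, one_mul, one_mul, ← map_mul, mul_inv_cancel, map_one]
    · rw [quad_mul, quad_mul, quad_mul, quad_inv, hh]
      exact hw

end CfsgLib.Zassenhaus.Icosa
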