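import Cfsg.Agent.Lib.Zassenhaus.Group
import Cfsg.Agent.Lib.Zassenhaus.Icosa
import Cfsg.Agent.Lib.Recognition.FPFRep

/-! Zassenhaus: a perfect fixed point free group is `SL(2,5)`. -/

namespace CfsgLib.Zassenhaus

open Subgroup

/-- A nonsolvable finite group has a nontrivial perfect subgroup. -/
theorem exists_perfect_subgroup {G : Type*} [Group G] [Finite G] (h : ¬ Group.IsSolvable G) :
    ∃ D : Subgroup G, D.Normal ∧ D ≠ ⊥ ∧ commutator D = ⊤ := by
  classical
  have hex : ∃ m, ∃ n, Nat.card (derivedSeries G n) = m := ⟨_, 0, rfl⟩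
  obtain ⟨n, hn⟩ := Nat.find_spec hex
  have hle : derivedSeries G (n + 1) ≤ derivedSeries G n := derivedSeries_antitone G (Nat.le_succ n)
  have heq : derivedSeries G (n + 1) = derivedSeries G n := Subgroup.eq_of_le_of_card_ge hle
    (hn ▸ Nat.find_min' hex ⟨n + 1, rfl⟩)
  refine ⟨derivedSeries G n, derivedSeries_normal G n,
    fun hb => h ((Group.isSolvable_def G).mpr ⟨n, hb⟩), ?_⟩
  refine map_injective (derivedSeries G n).subtype_injective ?_
  rw [map_subtype_commutator, ← derivedSeries_succ, heq, ← MonoidHom.range_eq_map, range_subtype]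

variable {G : Type*} [Group G] [Finite G] {K : Type*} [Field K] [CharZero K] [IsAlgClosed K]
  [Algebra.IsAlgebraic ℚ K]
  {V : Type*} [AddCommGroup V] [Module K V] [FiniteDimensional K V] [Nontrivial V]
  {φ : G →* Module.End K V}

theorem neighbour_or_golden (hF : FPF φ) {x y : G} (hx : IsThree x) (hy : IsThree y) (h1 : y ≠ x)
    (h2 : y ≠ x * x) : Nb hF x y ∨ Nb hF x (y * y) ∨ pv φ x y * pv φ x y = pv φ x y + 1 := by
  rcases hF.pairVal_cases hx.1 hx.2 hy.1 hy.2 h1 h2 with h | h | h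
  · exact Or.inr (Or.inl ⟨hy.sq, by rw [pv_sq_right hF x hy, pv, h, sub_zero]⟩)
  · exact Or.inl ⟨hy, h⟩
  · exact Or.inr (Or.inr h)

theorem exists_neighbour (hF : FPF φ) (hperf : commutator G = ⊤) {x : G} (hx : IsThree x) :
    ∃ b, Nb hF x b := by
  obtain ⟨y, hy, h1, h2⟩ := exists_three_not_mem hF hperf hx
  rcases neighbour_or_golden hF hx hy h1 h2 with h | h | h
  · exact ⟨y, h⟩
  · exact ⟨y * y, h⟩
  · exact ⟨_, (golden_neighbours hF hx hy h).1⟩

omit [Finite G] in
theorem mem_center_of_conj_pair {x : G} [Finite G] (hperf : commutator G = ⊤) (hx : IsThree x)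
    (h : ∀ g : G, g * x * g⁻¹ = x ∨ g * x * g⁻¹ = x * x) : x ∈ center G := by
  have h' : ∀ g y : G, (y = x ∨ y = x * x) → g * y * g⁻¹ = x ∨ g * y * g⁻¹ = x * x := by
    rintro g y (rfl | rfl)
    · exact h g
    · rcases h g with e | e
      · right; rw [← conj_mul, e]
      · left; rw [← conj_mul, e, hx.sq_sq]
  let act : MulAction G {y : G // y = x ∨ y = x * x} :=
    { smul := fun g y => ⟨g * y.1 * g⁻¹, h' g y.1 y.2⟩
      one_smul := fun y => Subtype.ext (by show 1 * y.1 * 1⁻¹ = y.1; group)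
      mul_smul := fun g k y => Subtype.ext (by
        show g * k * y.1 * (g * k)⁻¹ = g * (k * y.1 * k⁻¹) * g⁻¹; group) }
  have hcard : Nat.card {y : G // y = x ∨ y = x * x} ≤ 4 := by
    calc Nat.card {y : G // y = x ∨ y = x * x} = ({x, x * x} : Set G).ncard := rfl
      _ ≤ 2 := (Set.ncard_insert_le _ _).trans (by rw [Set.ncard_singleton])
      _ ≤ 4 := by norm_num
  refine mem_center_iff.mpr fun g => ?_
  have h1 := congrArg Subtype.val (smul_eq_self_of_card_le_four hperf hcard g ⟨x, Or.inl rfl⟩)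
  change g * x * g⁻¹ = x at h1
  calc g * x = g * x * g⁻¹ * g := by group
    _ = x * g := by rw [h1]

/-- There are two classes of neighbours. -/
theorem exists_triple (hF : FPF φ) (hperf : commutator G = ⊤) {x : G} (hx : IsThree x) :
    ∃ b c, Nb hF x b ∧ Nb hF x c ∧ pv φ b c = 0 ∧
      ∀ d, Nb hF x d → InClass x b d ∨ InClass x c d := by
  obtain ⟨b, hb⟩ := exists_neighbour hF hperf hx
  rcases two_classes hF hx hb with h | ⟨c, hc, h0, hall⟩
  swap
  · exact ⟨b, c, hb, hc, h0, hall⟩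
  exfalso
  have nogold : ∀ y, IsThree y → ¬ pv φ x y * pv φ x y = pv φ x y + 1 := by
    intro y hy hg
    obtain ⟨hA, hB, h0, -⟩ := golden_neighbours hF hx hy hg
    have hcl := InClass.trans hx (InClass.symm hx (h _ hA)) (h _ hB)
    rcases pv_class hF hx hA hcl with he | he
    · rw [he, pv_self hF hA.1] at h0
      exact one_ne_zero (neg_eq_zero.mp h0)
    · exact one_ne_zero (he.symm.trans h0)
  let T : Set (Subgroup G) := {zpowers x, zpowers b, zpowers (x * b * x⁻¹), zpowers (x⁻¹ * b * x)}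
  have hT : ∀ y, IsThree y → zpowers y ∈ T := by
    intro y hy
    have sqz : ∀ z : G, IsThree z → zpowers (z * z) = zpowers z := fun z hz => by
      rw [← hz.inv_eq, zpowers_inv]
    have inT : ∀ d, Nb hF x d → zpowers d ∈ T := by
      intro d hd
      rcases h d hd with rfl | rfl | rfl <;> simp [T]
    by_cases h1 : y = x
    · simp [T, h1]
    by_cases h2 : y = x * x
    · simp [T, h2, sqz x hx]
    rcases neighbour_or_golden hF hx hy h1 h2 with hn | hn | hn
    · exact inT y hn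
    · exact sqz y hy ▸ inT _ hn
    · exact absurd hn (nogold y hy)
  let act : MulAction G {H : Subgroup G // ∃ y, IsThree y ∧ H = zpowers y} :=
    { smul := fun g H => ⟨H.1.map (MulAut.conj g).toMonoidHom, by
        obtain ⟨y, hy, hH⟩ := H.2
        exact ⟨g * y * g⁻¹, hy.conj g, by rw [hH, MonoidHom.map_zpowers]; rfl⟩⟩
      one_smul := fun H => Subtype.ext (by
        show H.1.map _ = H.1
        rw [map_one]; exact map_id _)
      mul_smul := fun g k H => Subtype.ext (by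
        show H.1.map _ = (H.1.map _).map _
        rw [map_map, map_mul]; rfl) }
  have hcard : Nat.card {H : Subgroup G // ∃ y, IsThree y ∧ H = zpowers y} ≤ 4 := by
    calc Nat.card {H : Subgroup G // ∃ y, IsThree y ∧ H = zpowers y}
        = ({H : Subgroup G | ∃ y, IsThree y ∧ H = zpowers y}).ncard := rfl
      _ ≤ T.ncard := Set.ncard_le_ncard (fun H ⟨y, hy, hH⟩ => hH ▸ hT y hy) (Set.toFinite _)
      _ ≤ 4 := by
        refine (Set.ncard_insert_le _ _).trans ?_
        refine Nat.add_le_add_right ((Set.ncard_insert_le _ _).trans ?_) 1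
        refine Nat.add_le_add_right ((Set.ncard_insert_le _ _).trans ?_) 1
        rw [Set.ncard_singleton]
  refine not_central_three hF hperf hx (mem_center_of_conj_pair hperf hx fun g => ?_)
  have h1 := congrArg Subtype.val
    (smul_eq_self_of_card_le_four hperf hcard g ⟨zpowers x, x, hx, rfl⟩)
  change (zpowers x).map _ = zpowers x at h1
  have hm : g * x * g⁻¹ ∈ zpowers x := h1 ▸ ⟨x, mem_zpowers x, rfl⟩
  obtain ⟨k, hk⟩ := (isOfFinOrder_of_finite x).mem_powers_iff_mem_zpowers.mpr hm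
  simp only at hk
  have hk' : g * x * g⁻¹ = x ^ (k % 3) := by rw [← hx.orderOf_eq, pow_mod_orderOf, hk]
  have hk3 : k % 3 = 0 ∨ k % 3 = 1 ∨ k % 3 = 2 := by omega
  rcases hk3 with e | e | e <;> rw [e] at hk'
  · exact absurd (hk'.trans (pow_zero x)) (hx.conj g).1
  · exact Or.inl (hk'.trans (pow_one x))
  · exact Or.inr (hk'.trans (pow_two x))

/-- A perfect fixed point free group is `SL(2,5)`. -/
theorem perfect_iso_sl25 (hF : FPF φ) (hperf : commutator G = ⊤) [Nontrivial G] :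
    Nonempty (G ≃* Icosa.SL25) := by
  obtain ⟨x, hx⟩ := exists_three hF hperf
  obtain ⟨b, c, hb, hc, hbc, hall⟩ := exists_triple hF hperf hx
  obtain ⟨θ, hinj, hgen, hrange, hminus⟩ :=
    Icosa.exists_embedding hF hx hb.1 hc.1 hb.2 hc.2 hbc
  set S := θ.range with hS
  have mx : x ∈ S := ⟨Icosa.gsl 0, hgen 0⟩
  have mb : b ∈ S := ⟨Icosa.gsl 1, hgen 1⟩
  have mc : c ∈ S := ⟨Icosa.gsl 2, hgen 2⟩
  have mcl : ∀ e d, e ∈ S → InClass x e d → d ∈ S := by
    rintro e d he (rfl | rfl | rfl)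
    · exact he
    · exact mul_mem (mul_mem mx he) (inv_mem mx)
    · exact mul_mem (mul_mem (inv_mem mx) he) mx
  have mnb : ∀ d, Nb hF x d → d ∈ S := fun d hd =>
    (hall d hd).elim (mcl b d mb) (mcl c d mc)
  have msq : ∀ d, IsThree d → d * d ∈ S → d ∈ S := fun d hd h => hd.sq_sq ▸ mul_mem h h
  have mthree : ∀ y, IsThree y → y ∈ S := by
    intro y hy
    by_cases h1 : y = x
    · exact h1 ▸ mx
    by_cases h2 : y = x * x
    · exact h2 ▸ mul_mem mx mx
    rcases neighbour_or_golden hF hx hy h1 h2 with h | h | h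
    · exact mnb y h
    · exact msq y hy (mnb _ h)
    · obtain ⟨hA, hB, -, hw⟩ := golden_neighbours hF hx hy h
      have mA := msq _ (hx.conj y) (mnb _ hA)
      have mB := msq _ (by simpa using hx.conj y⁻¹) (mnb _ hB)
      have e : y = θ (-1) * (x * (y * x * y⁻¹) * (y⁻¹ * x * y) * x * (y * x * y⁻¹)) := by
        apply hF.injective
        rw [map_mul φ (θ (-1)), hminus, hw, neg_one_mul, neg_neg]
      rw [e]
      exact mul_mem ⟨-1, rfl⟩ (mul_mem (mul_mem (mul_mem (mul_mem mx mA) mB) mx) mA)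
  have hSn : S.Normal := by
    refine ⟨fun s hs g => ?_⟩
    have : S ≤ S.comap (MulAut.conj g).toMonoidHom := by
      rw [hrange, closure_le]
      rintro _ ⟨i, rfl⟩
      refine hrange ▸ mthree _ (IsThree.conj ?_ g)
      fin_cases i
      · exact hx
      · exact hb.1
      · exact hc.1
    exact this hs
  set C := centralizer (S : Set G) with hC
  set H := S ⊔ C with hH
  have memC : ∀ u : G, u * x * u⁻¹ = x → u * b * u⁻¹ = b → u * c * u⁻¹ = c → u ∈ C := by
    intro u h1 h2 h3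
    have : S ≤ centralizer {u} := by
      rw [hrange, closure_le]
      rintro _ ⟨i, rfl⟩
      rw [SetLike.mem_coe, mem_centralizer_singleton_iff]
      fin_cases i
      · calc x * u = (u * x * u⁻¹) * u := by rw [h1]
          _ = u * x := by group
      · calc b * u = (u * b * u⁻¹) * u := by rw [h2]
          _ = u * b := by group
      · calc c * u = (u * c * u⁻¹) * u := by rw [h3]
          _ = u * c := by group
    exact mem_centralizer_iff.mpr fun s hs => mem_centralizer_singleton_iff.mp (this hs)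
  have pre : ∀ y, IsThree y → ∃ a, θ a = y ∧ a ≠ 1 ∧ a ^ 3 = 1 := by
    intro y hy
    obtain ⟨a, rfl⟩ := mthree y hy
    exact ⟨a, rfl, fun h => hy.1 (by rw [h, map_one]), hinj (by rw [map_pow, hy.2, map_one])⟩
  have split : ∀ g : G, ∃ s ∈ S, (s⁻¹ * g) * x * (s⁻¹ * g)⁻¹ = x ∧
      (((s⁻¹ * g) * b * (s⁻¹ * g)⁻¹ = b ∧ (s⁻¹ * g) * c * (s⁻¹ * g)⁻¹ = c) ∨
        ((s⁻¹ * g) * b * (s⁻¹ * g)⁻¹ = c ∧ (s⁻¹ * g) * c * (s⁻¹ * g)⁻¹ = b)) := by
    intro g
    obtain ⟨α, hα, hα1⟩ := pre _ (hx.conj g)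
    obtain ⟨β, hβ, hβ1⟩ := pre _ (hb.1.conj g)
    obtain ⟨γ, hγ, hγ1⟩ := pre _ (hc.1.conj g)
    have minus : ∀ (u : Icosa.SL25), φ (θ u) = -1 → u = -1 := fun u hu =>
      hinj (hF.injective (hu.trans hminus.symm))
    obtain ⟨h, h0, h12⟩ := Icosa.triple_orbit hα1 hβ1 hγ1
      (minus _ (by rw [map_pow θ, map_mul θ, hα, hβ]
                   exact cube_of_pv_one hF (hx.conj g) (hb.1.conj g) (pv_conj_one hb.2)))
      (minus _ (by rw [map_pow θ, map_mul θ, hα, hγ]
                   exact cube_of_pv_one hF (hx.conj g) (hc.1.conj g) (pv_conj_one hc.2)))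
      (minus _ (by rw [map_pow θ, map_mul θ, hβ, hγ, pow_two]
                   exact sq_of_pv_zero hF (hb.1.conj g) (hc.1.conj g) (pv_conj_zero hbc)))
    have tr : ∀ (i : Fin 3) (a : Icosa.SL25) (y : G), h * Icosa.gsl i * h⁻¹ = a → θ a = g * y * g⁻¹ →
        ((θ h)⁻¹ * g) * y * ((θ h)⁻¹ * g)⁻¹ = ![x, b, c] i := by
      intro i a y ha hy
      rw [← hgen, show Icosa.gsl i = h⁻¹ * a * h by rw [← ha]; group, map_mul, map_mul, map_inv, hy]
      group
    refine ⟨θ h, ⟨h, rfl⟩, tr 0 α x h0 hα, ?_⟩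
    rcases h12 with ⟨u, v⟩ | ⟨u, v⟩
    · exact Or.inl ⟨tr 1 β b u hβ, tr 2 γ c v hγ⟩
    · exact Or.inr ⟨tr 2 β b u hβ, tr 1 γ c v hγ⟩
  have two : ∀ p q : G, p ∉ H → q ∉ H → p⁻¹ * q ∈ H := by
    intro p q hp hq
    obtain ⟨s, hs, hs0, hs1⟩ := split p
    obtain ⟨t, ht, ht0, ht1⟩ := split q
    have out : ∀ (g s : G), g ∉ H → s ∈ S → (s⁻¹ * g) * x * (s⁻¹ * g)⁻¹ = x →
        ¬ ((s⁻¹ * g) * b * (s⁻¹ * g)⁻¹ = b ∧ (s⁻¹ * g) * c * (s⁻¹ * g)⁻¹ = c) := by
      intro g s hg hs h0 hh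
      apply hg
      rw [show g = s * (s⁻¹ * g) by group]
      exact mul_mem (mem_sup_left hs) (mem_sup_right (memC _ h0 hh.1 hh.2))
    obtain ⟨pb, pc⟩ := hs1.resolve_left (out p s hp hs hs0)
    obtain ⟨qb, qc⟩ := ht1.resolve_left (out q t hq ht ht0)
    set u := s⁻¹ * p with hu
    set v := t⁻¹ * q with hv
    have fix : ∀ y z : G, u * y * u⁻¹ = z → v * y * v⁻¹ = z → (u⁻¹ * v) * y * (u⁻¹ * v)⁻¹ = y := by
      intro y z h1 h2
      calc (u⁻¹ * v) * y * (u⁻¹ * v)⁻¹ = u⁻¹ * (v * y * v⁻¹) * u := by group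
        _ = u⁻¹ * (u * y * u⁻¹) * u := by rw [h1, h2]
        _ = y := by group
    have huv : u⁻¹ * v ∈ C := memC _ (fix x x hs0 ht0) (fix b c pb qb) (fix c b pc qc)
    have e : p⁻¹ * q = (u⁻¹ * (s⁻¹ * t) * u⁻¹⁻¹) * (u⁻¹ * v) := by rw [hu, hv]; group
    rw [e]
    exact mul_mem (mem_sup_left (hSn.conj_mem _ (mul_mem (inv_mem hs) ht) u⁻¹)) (mem_sup_right huv)
  have hHtop : H = ⊤ := by
    by_contra hne
    obtain ⟨g₀, hg₀⟩ : ∃ g₀, g₀ ∉ H := by simpa [eq_top_iff, SetLike.le_def] using hne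
    have hsurj : Function.Surjective (fun e : Bool => if e then ((1 : G) : G ⧸ H) else (g₀ : G ⧸ H)) := by
      intro z
      induction z using QuotientGroup.induction_on with | H w => ?_
      by_cases hw : w ∈ H
      · exact ⟨true, by simp only [if_pos]; rw [QuotientGroup.eq]; simpa using hw⟩
      · exact ⟨false, by simp only [Bool.false_eq_true, if_false]; rw [QuotientGroup.eq]; exact two g₀ w hg₀ hw⟩
    have hcard : Nat.card (G ⧸ H) ≤ 4 :=
      (Nat.card_le_card_of_surjective _ hsurj).trans (by simp)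
    have := smul_eq_self_of_card_le_four hperf hcard g₀ ((1 : G) : G ⧸ H)
    rw [MulAction.Quotient.smul_mk, smul_eq_mul, mul_one, QuotientGroup.eq, mul_one] at this
    exact hg₀ (inv_mem_iff.mp this)
  have hCsolv : Group.IsSolvable C := by
    by_contra hns
    obtain ⟨D, -, hD, hDp⟩ := exists_perfect_subgroup hns
    have : Nontrivial D := (nontrivial_iff_ne_bot D).mpr hD
    have hFD : FPF (φ.comp (C.subtype.comp D.subtype)) := fun d hd v hv =>
      hF _ (fun he => hd (Subtype.ext (Subtype.ext he))) v hv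
    obtain ⟨d, hd⟩ := exists_three hFD hDp
    have hd' : IsThree ((d : C) : G) := ⟨fun he => hd.1 (Subtype.ext (Subtype.ext he)),
      congrArg (fun z : D => ((z : C) : G)) hd.2⟩
    obtain ⟨a, ha, ha1, ha3⟩ := pre _ hd'
    obtain ⟨i, hi⟩ := Icosa.exists_gsl_not_commute a ha1 ha3
    refine hi (hinj ?_)
    rw [map_mul, map_mul, ha]
    exact (mem_centralizer_iff.mp (d : C).2 (θ (Icosa.gsl i)) ⟨_, rfl⟩).symm
  have hStop : S = ⊤ := by
    have hsurj : Function.Surjective ((QuotientGroup.mk' S).comp C.subtype) := by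
      intro z
      obtain ⟨g, rfl⟩ := QuotientGroup.mk'_surjective S z
      have hg : g ∈ H := hHtop ▸ mem_top g
      obtain ⟨s, hs, k, hk, rfl⟩ := mem_sup_of_normal_left.mp hg
      refine ⟨⟨k, hk⟩, ?_⟩
      show QuotientGroup.mk' S k = QuotientGroup.mk' S (s * k)
      rw [map_mul, show QuotientGroup.mk' S s = 1 from (QuotientGroup.eq_one_iff s).mpr hs, one_mul]
    have := Group.isSolvable_of_surjective hsurj
    exact eq_top_iff.mpr fun g _ => (QuotientGroup.eq_one_iff g).mp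
      (map_eq_one_of_solvable hperf (QuotientGroup.mk' S) g)
  exact ⟨(MulEquiv.ofBijective θ ⟨hinj, MonoidHom.range_eq_top.mp hStop⟩).symm⟩

/-- Zassenhaus. -/
theorem perfect_fpf_iso_sl25 {G N : Type*} [Group G] [Finite G] [Group N] [Finite N] [Nontrivial N]
    [MulDistribMulAction G N] (h : CfsgLib.Frobenius.IsFPF G N) (hperf : commutator G = ⊤)
    (hne : Nontrivial G) : Nonempty (G ≃* Matrix.SpecialLinearGroup (Fin 2) (ZMod 5)) := by
  obtain ⟨n, ρ, hn, -, -, hfix⟩ := CfsgLib.Recognition.exists_fpf_rep h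
  let φ : G →* Module.End (AlgebraicClosure ℚ) (Fin n → AlgebraicClosure ℚ) :=
    (Matrix.toLinAlgEquiv' : Matrix (Fin n) (Fin n) (AlgebraicClosure ℚ) ≃ₐ[AlgebraicClosure ℚ] _).toMonoidHom.comp
      ((Units.coeHom (Matrix (Fin n) (Fin n) (AlgebraicClosure ℚ))).comp ρ)
  have : Nonempty (Fin n) := ⟨⟨0, hn⟩⟩
  have : Algebra.IsAlgebraic ℚ (AlgebraicClosure ℚ) := by
    convert AlgebraicClosure.isAlgebraic ℚ <;> first | rfl | exact Subsingleton.elim _ _
  exact perfect_iso_sl25 (φ := φ) (fun g hg v hv => hfix g hg v (by simpa [φ] using hv)) hperf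

end CfsgLib.Zassenhaus
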