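import Mathlib.Tactic.NoncommRing
import Mathlib.Algebra.Module.Basic
import Mathlib.Algebra.GroupWithZero.Action.Defs
import Mathlib.Tactic.Abel
import Mathlib.Algebra.Ring.Commute

/-! Identities between elements with `x ^ 2 + x + 1 = 0` in a ring, used for the classification of
perfect fixed point free groups. -/

namespace CfsgLib.Zassenhaus

variable {R : Type*} [Ring R]

/-- `x` satisfies `x ^ 2 + x + 1 = 0`. -/
def Omega (x : R) : Prop := x * x = -1 - x

/-- The value `xy + (xy)⁻¹` for two elements with `x ^ 2 + x + 1 = 0`. -/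
def pairVal (x y : R) : R := 1 + x + y + x * y + y * x

theorem pairVal_comm (x y : R) : pairVal x y = pairVal y x := by
  simp only [pairVal]; abel

theorem Omega.eq' {x : R} (hx : Omega x) : x * x = -1 - x := hx

theorem Omega.assoc {x : R} (hx : Omega x) (w : R) : x * (x * w) = -w - x * w := by
  rw [← mul_assoc, hx, sub_mul, neg_one_mul]

theorem Omega.cube {x : R} (hx : Omega x) : x * x * x = 1 := by
  rw [hx.eq', sub_mul, neg_one_mul, hx.eq']; abel

theorem Omega.sq {x : R} (hx : Omega x) : Omega (x * x) := by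
  show x * x * (x * x) = -1 - x * x
  rw [← mul_assoc, hx.cube, one_mul, hx]; abel

theorem Omega.pairVal_self {x : R} (hx : Omega x) : pairVal x x = -1 := by
  simp only [pairVal]; rw [hx]; abel

theorem Omega.pairVal_self_sq {x : R} (hx : Omega x) : pairVal x (x * x) = 2 := by
  simp only [pairVal]
  rw [← mul_assoc, hx.cube, hx, ← one_add_one_eq_two]; abel

/-- `xy + y²x²` is the value of the pair. -/
theorem Omega.pairVal_eq {x y : R} (hx : Omega x) (hy : Omega y) :
    x * y + (y * y) * (x * x) = pairVal x y := by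
  simp only [pairVal]; rw [hx, hy]; noncomm_ring

theorem Omega.commute_pairVal {x : R} (hx : Omega x) (y : R) : Commute x (pairVal x y) := by
  show x * pairVal x y = pairVal x y * x
  simp only [pairVal, mul_add, add_mul, mul_one, one_mul, mul_assoc, hx.assoc]
  rw [hx]
  simp only [mul_sub, mul_neg, mul_one, sub_eq_add_neg]
  simp only [mul_add, mul_neg, mul_one]
  abel

theorem Omega.pairVal_sq {x y : R} (hy : Omega y) : pairVal x (y * y) = 1 - pairVal x y := by
  simp only [pairVal]; rw [hy]; noncomm_ring

/-- Turning a value into a rewriting rule. -/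
theorem swap_rule {x y c : R} (h : pairVal x y = c) : y * x = c - 1 - x - y - x * y := by
  rw [← h, pairVal]; abel

theorem swap_rule_assoc {x y c : R} (h : pairVal x y = c) (w : R) :
    y * (x * w) = c * w - w - x * w - y * w - x * (y * w) := by
  rw [← mul_assoc, swap_rule h]; simp only [sub_mul, one_mul, mul_assoc]

/-- If two values with `u` are central then `u` commutes with the value of the pair. -/
theorem commute_pairVal_of_central {u b c k l : R} (hb : pairVal u b = k) (hc : pairVal u c = l)
    (hkb : ∀ z, k * z = z * k) (hlc : ∀ z, l * z = z * l) : Commute u (pairVal b c) := by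
  have rb := swap_rule hb
  have rc := swap_rule hc
  have rb' := swap_rule_assoc hb
  have rc' := swap_rule_assoc hc
  show u * pairVal b c = pairVal b c * u
  simp only [pairVal, mul_add, add_mul, mul_one, one_mul, mul_assoc, rb, rc, mul_sub, sub_mul, rb',
    rc']
  simp only [hkb c, hlc b]
  abel

/-- If `b` makes an adjacent pair with `x`, its conjugates are given linearly. -/
theorem conj_of_adjacent {x b : R} (hx : Omega x) (h : pairVal x b = 1) :
    x * b * (x * x) = -1 - x - b - x * b ∧ (x * x) * b * x = -1 + x * b := by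
  have r := swap_rule h
  have r' := swap_rule_assoc h
  constructor
  · rw [hx.eq']
    simp only [mul_assoc, mul_sub, sub_mul, mul_neg, neg_mul, mul_one, one_mul, r, r', hx.assoc,
      hx.eq']
    abel
  · rw [hx.eq']
    simp only [mul_assoc, mul_sub, sub_mul, mul_neg, neg_mul, mul_one, one_mul, r, hx.assoc,
      hx.eq']
    abel

/-- The sum of the three conjugates. -/
theorem sum_conj_of_adjacent {x b : R} (hx : Omega x) (h : pairVal x b = 1) :
    b + x * b * (x * x) + (x * x) * b * x = -2 - x := by
  obtain ⟨h1, h2⟩ := conj_of_adjacent hx h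
  rw [h1, h2, ← one_add_one_eq_two]; abel

/-- From a value satisfying `s ^ 2 = s + 1` one gets an adjacent conjugate. -/
theorem adjacent_conj_of_golden {x y : R} (hx : Omega x) (hy : Omega y)
    (h : pairVal x y * pairVal x y = pairVal x y + 1) :
    pairVal x (y * x * (y * y)) = 0 := by
  set s := pairVal x y with hs
  have ryx : y * x = s - 1 - x - y - x * y := swap_rule hs.symm
  have ryx' := swap_rule_assoc hs.symm
  have c1 : x * s = s * x := hx.commute_pairVal y
  have c2 : y * s = s * y := by rw [hs, pairVal_comm]; exact hy.commute_pairVal x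
  have c1' : ∀ w, x * (s * w) = s * (x * w) := fun w => by rw [← mul_assoc, c1, mul_assoc]
  have c2' : ∀ w, y * (s * w) = s * (y * w) := fun w => by rw [← mul_assoc, c2, mul_assoc]
  have hss : s * s = s + 1 := h
  have hss' : ∀ w, s * (s * w) = s * w + w := fun w => by
    rw [← mul_assoc, hss, add_mul, one_mul]
  clear_value s
  rw [hy]
  simp only [pairVal, mul_assoc, mul_add, add_mul, mul_sub, sub_mul, mul_neg, neg_mul, mul_one,
    one_mul, ryx, ryx', hx.assoc, hy.assoc, hx.eq', hy.eq', c1, c2, c1', c2', hss, hss', neg_neg]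
  abel

section Four

variable {y0 y1 y2 y3 : R}

/-- Four points, all values `0`: the element commuting with the first one. -/
theorem triangle_identity (h0 : Omega y0) (h1 : Omega y1) (h2 : Omega y2) (h3 : Omega y3)
    (e01 : pairVal y0 y1 = 0) (e02 : pairVal y0 y2 = 0) (e03 : pairVal y0 y3 = 0)
    (e12 : pairVal y1 y2 = 0) (e13 : pairVal y1 y3 = 0) (e23 : pairVal y2 y3 = 0) :
    let u := -(y1 * y2 * y3 * y1 * y2)
    u * u * u = 1 ∧ Omega u ∧ u * y0 = y0 * u ∧
      pairVal u y1 * pairVal u y1 = pairVal u y1 + 1 := by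
  intro u
  have r10 := swap_rule e01; have r20 := swap_rule e02; have r30 := swap_rule e03
  have r21 := swap_rule e12; have r31 := swap_rule e13; have r32 := swap_rule e23
  have r10' := swap_rule_assoc e01; have r20' := swap_rule_assoc e02
  have r30' := swap_rule_assoc e03; have r21' := swap_rule_assoc e12
  have r31' := swap_rule_assoc e13; have r32' := swap_rule_assoc e23
  have hu : u = -1 - y2 - y1 * y2 - y2 * y3 + y1 * y3 := by
    simp only [u, mul_assoc, mul_add, add_mul, mul_sub, sub_mul, mul_neg, neg_mul, mul_one,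
      one_mul, zero_mul, mul_zero, r21, r31, r32, r21', r31', r32', h1.assoc, h2.assoc, h3.assoc,
      h1.eq', h2.eq', h3.eq']
    abel
  have hu2 : u * u = y2 + y1 * y2 + y2 * y3 - y1 * y3 := by
    rw [hu]
    simp only [mul_assoc, mul_add, add_mul, mul_sub, sub_mul, mul_neg, neg_mul, mul_one,
      one_mul, zero_mul, mul_zero, r21, r31, r32, r21', r31', r32', h1.assoc, h2.assoc, h3.assoc,
      h1.eq', h2.eq', h3.eq']
    abel
  have hom : Omega u := by
    show u * u = -1 - u
    rw [hu2, hu]; abel
  refine ⟨hom.cube, hom, ?_, ?_⟩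
  · rw [hu]
    simp only [mul_assoc, mul_add, add_mul, mul_sub, sub_mul, mul_neg, neg_mul, mul_one,
      one_mul, zero_mul, mul_zero, r10, r20, r30, r10', r20', r30', r21, r31, r32, r21', r31', r32']
    abel
  · have hs : pairVal u y1 =
        -(y1 * y2) - y2 * y3 - y1 * y3 - y1 - (2 : ℤ) • (y1 * (y2 * y3)) - y3 := by
      rw [hu]
      simp only [pairVal, mul_assoc, mul_add, add_mul, mul_sub, sub_mul, mul_neg, neg_mul, mul_one,
        one_mul, zero_mul, mul_zero, r21, r31, r32, r21', r31', r32', h1.assoc, h2.assoc, h3.assoc,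
        h1.eq', h2.eq', h3.eq']
      abel
    rw [hs]
    simp only [mul_assoc, mul_add, add_mul, mul_sub, sub_mul, mul_neg, neg_mul, mul_one,
      one_mul, zero_mul, mul_zero, smul_mul_assoc, mul_smul_comm, smul_sub, smul_add, smul_neg,
      smul_zero, r21, r31, r32, r21', r31', r32', h1.assoc, h2.assoc, h3.assoc,
      h1.eq', h2.eq', h3.eq']
    abel

/-- Four points with one golden value: a pair with an impossible value. -/
theorem golden_identity (h0 : Omega y0) (h1 : Omega y1) (h2 : Omega y2) (h3 : Omega y3)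
    (e01 : pairVal y0 y1 = 0) (e02 : pairVal y0 y2 = 0) (e03 : pairVal y0 y3 = 0)
    (e12 : pairVal y1 y2 = 0) (e23 : pairVal y2 y3 = 0)
    (hg : pairVal y1 y3 * pairVal y1 y3 = pairVal y1 y3 + 1) :
    let s := pairVal (y0 * y1 * y2 * (y1 * y1) * (y0 * y0)) y3
    s * s - s = 1 - pairVal y1 y3 := by
  intro s
  set g := pairVal y1 y3 with e13
  have e13' : pairVal y1 y3 = g := e13.symm
  have g1 : y1 * g = g * y1 := by rw [e13]; exact h1.commute_pairVal y3
  have g3 : y3 * g = g * y3 := by rw [e13, pairVal_comm]; exact h3.commute_pairVal y1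
  have hz : ∀ z : R, (0 : R) * z = z * 0 := fun z => by simp
  have g0 : y0 * g = g * y0 := by
    rw [e13]; exact commute_pairVal_of_central e01 e03 hz hz
  have g2 : y2 * g = g * y2 := by
    rw [e13]; exact commute_pairVal_of_central ((pairVal_comm y2 y1).trans e12) e23 hz hz
  have r10 := swap_rule e01; have r20 := swap_rule e02; have r30 := swap_rule e03
  have r21 := swap_rule e12; have r31 := swap_rule e13'; have r32 := swap_rule e23
  have r10' := swap_rule_assoc e01; have r20' := swap_rule_assoc e02
  have r30' := swap_rule_assoc e03; have r21' := swap_rule_assoc e12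
  have r31' := swap_rule_assoc e13'; have r32' := swap_rule_assoc e23
  have g0' : ∀ w, y0 * (g * w) = g * (y0 * w) := fun w => by rw [← mul_assoc, g0, mul_assoc]
  have g1' : ∀ w, y1 * (g * w) = g * (y1 * w) := fun w => by rw [← mul_assoc, g1, mul_assoc]
  have g2' : ∀ w, y2 * (g * w) = g * (y2 * w) := fun w => by rw [← mul_assoc, g2, mul_assoc]
  have g3' : ∀ w, y3 * (g * w) = g * (y3 * w) := fun w => by rw [← mul_assoc, g3, mul_assoc]
  have hgg : g * g = g + 1 := hg
  have hgg' : ∀ w, g * (g * w) = g * w + w := fun w => by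
    rw [← mul_assoc, hgg, add_mul, one_mul]
  clear_value g
  have hzz : y0 * y1 * y2 * (y1 * y1) * (y0 * y0) =
      -1 - y1 - y0 * y1 + y0 * y2 - y1 * y2 := by
    rw [h1, h0]
    simp only [mul_assoc, mul_add, add_mul, mul_sub, sub_mul, mul_neg, neg_mul, mul_one,
      one_mul, zero_mul, mul_zero, r10, r20, r21, r10', r20', r21', h0.assoc, h1.assoc, h2.assoc,
      h0.eq', h1.eq', h2.eq']
    abel
  have hs : s = y0 * y2 - y1 - y0 * y1 - y1 * y2 - y3 + (2 : ℤ) • (y0 * (y2 * y3))
      - (2 : ℤ) • (y1 * y3) - (2 : ℤ) • (y0 * (y1 * y3)) - (2 : ℤ) • (y1 * (y2 * y3))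
      + g * y0 - g * y2 := by
    simp only [s, hzz, pairVal, mul_assoc, mul_add, add_mul, mul_sub, sub_mul, mul_neg, neg_mul,
      mul_one, one_mul, zero_mul, mul_zero, r10, r20, r21, r30, r31, r32, r10', r20', r21', r30',
      r31', r32', h0.assoc, h1.assoc, h2.assoc, h3.assoc, h0.eq', h1.eq', h2.eq', h3.eq',
      g0, g1, g2, g3, g0', g1', g2', g3', hgg, hgg']
    abel
  rw [hs]
  simp only [mul_assoc, mul_add, add_mul, mul_sub, sub_mul, mul_neg, neg_mul,
    mul_one, one_mul, zero_mul, mul_zero, smul_mul_assoc, mul_smul_comm, smul_sub, smul_add,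
    smul_neg, smul_zero, r10, r20, r21, r30, r31, r32, r10', r20', r21', r30',
    r31', r32', h0.assoc, h1.assoc, h2.assoc, h3.assoc, h0.eq', h1.eq', h2.eq', h3.eq',
    g0, g1, g2, g3, g0', g1', g2', g3', hgg, hgg']
  abel

end Four

/-- Three mutually adjacent elements lie in one system of three conjugates. -/
theorem tetra_identity {x b c : R} (hx : Omega x) (hb : Omega b) (hc : Omega c)
    (exb : pairVal x b = 1) (exc : pairVal x c = 1) (ebc : pairVal b c = 1) :
    (c - x * b * (x * x)) * (c - (x * x) * b * x) = 0 := by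
  obtain ⟨h1, h2⟩ := conj_of_adjacent hx exb
  rw [h1, h2]
  have r1 := swap_rule exb; have r2 := swap_rule exc; have r3 := swap_rule ebc
  have r1' := swap_rule_assoc exb; have r2' := swap_rule_assoc exc
  have r3' := swap_rule_assoc ebc
  simp only [mul_assoc, mul_add, add_mul, mul_sub, sub_mul, mul_neg, neg_mul, mul_one, one_mul,
    r1, r2, r3, r1', r2', r3', hx.assoc, hb.assoc, hc.assoc, hx.eq', hb.eq', hc.eq']
  abel

end CfsgLib.Zassenhaus
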