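import Cfsg.Agent.Lib.Zassenhaus.Rep
import Mathlib.Algebra.CharP.Algebra
import Mathlib.GroupTheory.Solvable

/-! The configuration of the elements of order 3 of a fixed point free group. -/

namespace CfsgLib.Zassenhaus

variable {G : Type*} [Group G] [Finite G] {K : Type*} [Field K] [CharZero K] [IsAlgClosed K]
  [Algebra.IsAlgebraic ℚ K]
  {V : Type*} [AddCommGroup V] [Module K V] [FiniteDimensional K V] [Nontrivial V]
  {φ : G →* Module.End K V}

/-- An element of order 3. -/
def IsThree (g : G) : Prop := g ≠ 1 ∧ g ^ 3 = 1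

omit [Finite G] in
theorem IsThree.inv_eq {g : G} (h : IsThree g) : g⁻¹ = g * g :=
  inv_eq_of_mul_eq_one_right (by rw [← mul_assoc, ← pow_two, ← pow_succ, h.2])

omit [Finite G] in
theorem IsThree.sq {g : G} (h : IsThree g) : IsThree (g * g) := by
  rw [← h.inv_eq]
  exact ⟨inv_ne_one.mpr h.1, by rw [inv_pow, h.2, inv_one]⟩

omit [Finite G] in
theorem IsThree.conj {g : G} (h : IsThree g) (a : G) : IsThree (a * g * a⁻¹) :=
  ⟨fun he => h.1 (by
    calc g = a⁻¹ * (a * g * a⁻¹) * a := by group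
      _ = 1 := by rw [he]; group), by rw [conj_pow, h.2, mul_one, mul_inv_cancel]⟩

omit [Finite G] in
theorem IsThree.mul_mul_self {g : G} (h : IsThree g) : g * g * g = 1 := by
  rw [← pow_two, ← pow_succ, h.2]

omit [Finite G] in
theorem IsThree.sq_sq {g : G} (h : IsThree g) : g * g * (g * g) = g := by
  rw [← mul_assoc, h.mul_mul_self, one_mul]

omit [Finite G] in
theorem IsThree.orderOf_eq {g : G} (h : IsThree g) : orderOf g = 3 := by
  have : Fact (Nat.Prime 3) := ⟨Nat.prime_three⟩
  exact orderOf_eq_prime h.2 h.1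

variable (φ) in
/-- The value of a pair. -/
noncomputable def pv (x y : G) : Module.End K V := pairVal (φ x) (φ y)

theorem natCast_ne_zero' {n : ℕ} (hn : n ≠ 0) : (n : Module.End K V) ≠ 0 := by
  intro h
  rw [← map_natCast (algebraMap K (Module.End K V))] at h
  have h2 := (algebraMap K (Module.End K V)).injective (h.trans (map_zero _).symm)
  exact hn (by exact_mod_cast h2)

theorem two_ne_zero' : (2 : Module.End K V) ≠ 0 := by
  exact_mod_cast natCast_ne_zero' (K := K) (V := V) (n := 2) (by norm_num)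

theorem neg_one_ne_one' : (-1 : Module.End K V) ≠ 1 := fun h =>
  two_ne_zero' (K := K) (V := V) (by rw [← one_add_one_eq_two]; nth_rw 1 [← h]; exact neg_add_cancel 1)

omit [Finite G] [CharZero K] [IsAlgClosed K] [Algebra.IsAlgebraic ℚ K] [FiniteDimensional K V]
  [Nontrivial V] in
theorem pv_comm (x y : G) : pv φ x y = pv φ y x := pairVal_comm _ _

omit [Finite G] [CharZero K] [IsAlgClosed K] [Algebra.IsAlgebraic ℚ K] [FiniteDimensional K V]
  [Nontrivial V] in
theorem pv_conj (g x y : G) :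
    pv φ (g * x * g⁻¹) (g * y * g⁻¹) = φ g * pv φ x y * φ g⁻¹ := by
  have e : φ g⁻¹ * φ g = 1 := by rw [← map_mul, inv_mul_cancel, map_one]
  have e' : φ g * φ g⁻¹ = 1 := by rw [← map_mul, mul_inv_cancel, map_one]
  simp only [pv, pairVal, map_mul, mul_add, add_mul, mul_one, e']
  congr 1
  · congr 1
    simp only [mul_assoc]
    rw [← mul_assoc (φ g⁻¹) (φ g), e, one_mul]
  · simp only [mul_assoc]
    rw [← mul_assoc (φ g⁻¹) (φ g), e, one_mul]

omit [Finite G] [CharZero K] [IsAlgClosed K] [Algebra.IsAlgebraic ℚ K] [FiniteDimensional K V]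
  [Nontrivial V] in
theorem pv_conj_zero {g x y : G} (h : pv φ x y = 0) : pv φ (g * x * g⁻¹) (g * y * g⁻¹) = 0 := by
  rw [pv_conj, h, mul_zero, zero_mul]

omit [Finite G] [CharZero K] [IsAlgClosed K] [Algebra.IsAlgebraic ℚ K] [FiniteDimensional K V]
  [Nontrivial V] in
theorem pv_conj_one {g x y : G} (h : pv φ x y = 1) : pv φ (g * x * g⁻¹) (g * y * g⁻¹) = 1 := by
  rw [pv_conj, h, mul_one, ← map_mul, mul_inv_cancel, map_one]

variable (hF : FPF φ)
include hF

omit [Algebra.IsAlgebraic ℚ K] [IsAlgClosed K] [CharZero K] [FiniteDimensional K V] [Finite G]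
  [Nontrivial V] in
theorem pv_self {x : G} (hx : IsThree x) : pv φ x x = -1 := (hF.omega hx.1 hx.2).pairVal_self

omit [Algebra.IsAlgebraic ℚ K] [IsAlgClosed K] [CharZero K] [FiniteDimensional K V] [Finite G]
  [Nontrivial V] in
theorem pv_self_sq {x : G} (hx : IsThree x) : pv φ x (x * x) = 2 := by
  rw [pv, map_mul]; exact (hF.omega hx.1 hx.2).pairVal_self_sq

omit [Algebra.IsAlgebraic ℚ K] [IsAlgClosed K] [CharZero K] [FiniteDimensional K V] [Finite G]
  [Nontrivial V] in
theorem pv_sq_right (x : G) {y : G} (hy : IsThree y) : pv φ x (y * y) = 1 - pv φ x y := by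
  rw [pv, map_mul]; exact (hF.omega hy.1 hy.2).pairVal_sq

omit [Algebra.IsAlgebraic ℚ K] [IsAlgClosed K] [CharZero K] [FiniteDimensional K V] [Finite G]
  [Nontrivial V] in
theorem pv_sq_left {x : G} (hx : IsThree x) (y : G) : pv φ (x * x) y = 1 - pv φ x y := by
  rw [pv_comm, pv_sq_right hF y hx, pv_comm]

omit [Algebra.IsAlgebraic ℚ K] [IsAlgClosed K] [CharZero K] [FiniteDimensional K V] [Finite G]
  [Nontrivial V] in
theorem pv_eq_sum {x y : G} (hx : IsThree x) (hy : IsThree y) :
    φ (x * y) + φ (x * y)⁻¹ = pv φ x y := by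
  rw [mul_inv_rev, hx.inv_eq, hy.inv_eq]
  simp only [map_mul]
  exact (hF.omega hx.1 hx.2).pairVal_eq (hF.omega hy.1 hy.2)

omit [Algebra.IsAlgebraic ℚ K] [IsAlgClosed K] [CharZero K] [FiniteDimensional K V] [Finite G]
  [Nontrivial V] in
/-- A pair of value 0 has a product squaring to `-1`. -/
theorem sq_of_pv_zero {x y : G} (hx : IsThree x) (hy : IsThree y) (h : pv φ x y = 0) :
    φ ((x * y) * (x * y)) = -1 := by
  have h1 := congrArg (φ (x * y) * ·) ((pv_eq_sum hF hx hy).trans h)
  simp only [mul_add, ← map_mul, mul_inv_cancel, map_one, mul_zero] at h1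
  exact eq_neg_of_add_eq_zero_left h1

omit [Algebra.IsAlgebraic ℚ K] [IsAlgClosed K] [CharZero K] [FiniteDimensional K V] [Finite G]
  [Nontrivial V] in
/-- A pair of value 1 has a product cubing to `-1`. -/
theorem cube_of_pv_one {x y : G} (hx : IsThree x) (hy : IsThree y) (h : pv φ x y = 1) :
    φ ((x * y) ^ 3) = -1 := by
  have h1 := congrArg (φ (x * y) * ·) ((pv_eq_sum hF hx hy).trans h)
  simp only [mul_add, ← map_mul, mul_inv_cancel, map_one, mul_one] at h1
  rw [map_mul] at h1
  have h2 := eq_sub_of_add_eq h1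
  rw [map_pow, pow_succ, pow_two, h2, sub_mul, one_mul, h2]
  abel

omit [Algebra.IsAlgebraic ℚ K] [IsAlgClosed K] [CharZero K] [FiniteDimensional K V] [Finite G]
  [Nontrivial V] in
/-- A golden pair has a product with fifth power `-1`. -/
theorem fifth_of_golden {x y : G} (hx : IsThree x) (hy : IsThree y)
    (h : pv φ x y * pv φ x y = pv φ x y + 1) : φ ((x * y) ^ 5) = -1 := by
  set g := φ (x * y) with hg
  set s := pv φ x y with hs
  have hgi : g * φ (x * y)⁻¹ = 1 := by rw [hg, ← map_mul, mul_inv_cancel, map_one]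
  have hig : φ (x * y)⁻¹ * g = 1 := by rw [hg, ← map_mul, inv_mul_cancel, map_one]
  have hsum : g + φ (x * y)⁻¹ = s := pv_eq_sum hF hx hy
  have hc : g * s = s * g := by rw [← hsum, mul_add, add_mul, hgi, hig]
  have h2 : g * g = s * g - 1 := by
    rw [← hsum, add_mul, hig, add_sub_cancel_right]
  have hss : ∀ w, s * (s * w) = s * w + w := fun w => by rw [← mul_assoc, h, add_mul, one_mul]
  have h3 : g * g * g = s * g - s := by
    rw [h2, sub_mul, mul_assoc, one_mul, h2, mul_sub, hss, mul_one]; abel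
  have h4 : g * g * g * g = g - s := by
    rw [h3, sub_mul, mul_assoc, h2, mul_sub, hss, mul_one]; abel
  rw [map_pow, ← hg, show g ^ 5 = g * g * g * g * g by
    simp [pow_succ], h4, sub_mul, h2]
  abel

/-- A neighbour of `x`. -/
def Nb (_hF : FPF φ) (x b : G) : Prop := IsThree b ∧ pv φ x b = 1

omit hF [Finite G] [CharZero K] [IsAlgClosed K] [Algebra.IsAlgebraic ℚ K] [FiniteDimensional K V]
  [Nontrivial V] in
/-- `c` is conjugate to `b` under `x`. -/
def InClass (x b c : G) : Prop := c = b ∨ c = x * b * x⁻¹ ∨ c = x⁻¹ * b * x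

omit hF [Finite G] in
theorem InClass.symm {x b c : G} (hx : IsThree x) (h : InClass x b c) : InClass x c b := by
  have h3 := hx.inv_eq
  rcases h with rfl | rfl | rfl
  · exact Or.inl rfl
  · right; right; group
  · right; left; group

omit hF [Finite G] in
theorem InClass.trans {x b c d : G} (hx : IsThree x) (h : InClass x b c) (h' : InClass x c d) :
    InClass x b d := by
  have e1 : x * x * x = 1 := hx.mul_mul_self
  have e2 : x * x = x⁻¹ := hx.inv_eq.symm
  have e3 : x⁻¹ * x⁻¹ = x := by rw [← e2, hx.sq_sq]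
  rcases h with rfl | rfl | rfl <;> rcases h' with rfl | rfl | rfl
  · exact Or.inl rfl
  · exact Or.inr (Or.inl rfl)
  · exact Or.inr (Or.inr rfl)
  · exact Or.inr (Or.inl rfl)
  · refine Or.inr (Or.inr ?_)
    calc x * (x * b * x⁻¹) * x⁻¹ = (x * x) * b * (x⁻¹ * x⁻¹) := by group
      _ = x⁻¹ * b * x := by rw [e2, e3]
  · left; group
  · exact Or.inr (Or.inr rfl)
  · left; group
  · refine Or.inr (Or.inl ?_)
    calc x⁻¹ * (x⁻¹ * b * x) * x = (x⁻¹ * x⁻¹) * b * (x * x) := by group
      _ = x * b * x⁻¹ := by rw [e3, e2]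

omit [Algebra.IsAlgebraic ℚ K] [IsAlgClosed K] [CharZero K] [FiniteDimensional K V] [Finite G]
  [Nontrivial V] in
theorem Nb.class {x b c : G} (hb : Nb hF x b) (hc : InClass x b c) : Nb hF x c := by
  rcases hc with rfl | rfl | rfl
  · exact hb
  · refine ⟨hb.1.conj x, ?_⟩
    have := pv_conj_one (g := x) hb.2
    rwa [mul_inv_cancel_right] at this
  · refine ⟨?_, ?_⟩
    · simpa using hb.1.conj x⁻¹
    · have := pv_conj_one (g := x⁻¹) hb.2
      simpa using this

omit [Algebra.IsAlgebraic ℚ K] [IsAlgClosed K] [Finite G] [FiniteDimensional K V] in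
theorem Nb.sq_not {x b : G} (hb : Nb hF x b) : ¬ Nb hF x (b * b) := by
  intro h
  have := h.2
  rw [pv_sq_right hF x hb.1, hb.2, sub_self] at this
  exact zero_ne_one this

omit [Algebra.IsAlgebraic ℚ K] [IsAlgClosed K] [CharZero K] [FiniteDimensional K V] [Finite G] in
/-- Three mutually adjacent elements. -/
theorem class_of_pv_one {x b c : G} (hx : IsThree x) (hb : Nb hF x b) (hc : Nb hF x c)
    (h : pv φ b c = 1) : InClass x b c := by
  have hid := tetra_identity (hF.omega hx.1 hx.2) (hF.omega hb.1.1 hb.1.2) (hF.omega hc.1.1 hc.1.2)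
    hb.2 hc.2 h
  rw [← map_mul φ x x, ← map_mul φ x b, ← map_mul φ (x * b) (x * x), ← map_mul φ (x * x) b,
    ← map_mul φ (x * x * b) x, ← hx.inv_eq] at hid
  by_cases h1 : c = x * b * x⁻¹
  · exact Or.inr (Or.inl h1)
  have h2 := hF.sub_mul_eq_zero h1 hid
  exact Or.inr (Or.inr (hF.injective (sub_eq_zero.mp h2)))

omit [Algebra.IsAlgebraic ℚ K] [IsAlgClosed K] [CharZero K] [FiniteDimensional K V] [Finite G]
  [Nontrivial V] in
/-- The values of a class against itself. -/
theorem pv_class {x b c : G} (hx : IsThree x) (hb : Nb hF x b) (hc : InClass x b c) :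
    c = b ∨ pv φ b c = 1 := by
  have ox := hF.omega hx.1 hx.2
  have ob := hF.omega hb.1.1 hb.1.2
  have r := swap_rule hb.2
  have r' := swap_rule_assoc hb.2
  have h1 : pv φ b (x * b * x⁻¹) = 1 := by
    rw [pv, hx.inv_eq, map_mul, map_mul, map_mul, (conj_of_adjacent ox hb.2).1]
    simp only [pairVal, mul_assoc, mul_add, add_mul, mul_sub, sub_mul, mul_neg, neg_mul, mul_one,
      one_mul, r, r', ob.assoc, ob.eq', ox.assoc, ox.eq']
    abel
  rcases hc with rfl | rfl | rfl
  · exact Or.inl rfl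
  · exact Or.inr h1
  · right
    have := pv_conj_one (g := x⁻¹) h1
    rw [show x⁻¹ * (x * b * x⁻¹) * x⁻¹⁻¹ = b by group, inv_inv, pv_comm] at this
    exact this

/-- Two neighbours are in one class, or a conjugate gives value 0. -/
theorem class_or_zero {x b c : G} (hx : IsThree x) (hb : Nb hF x b) (hc : Nb hF x c) :
    InClass x b c ∨ ∃ c', InClass x c c' ∧ pv φ b c' = 0 := by
  by_contra hcon
  simp only [not_or, not_exists, not_and] at hcon
  obtain ⟨hnc, hnz⟩ := hcon
  have gold : ∀ d, InClass x c d → pv φ b d * pv φ b d = pv φ b d + 1 := by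
    intro d hd
    have hdn := Nb.class hF hc hd
    rcases hF.pairVal_cases hb.1.1 hb.1.2 hdn.1.1 hdn.1.2
      (fun h => hnc (InClass.symm hx (h ▸ hd)))
      (fun h => Nb.sq_not hF hb (h ▸ hdn)) with h | h | h
    · exact absurd h (hnz d hd)
    · exact absurd (InClass.trans hx (class_of_pv_one hF hx hb hdn h) (InClass.symm hx hd)) hnc
    · exact h
  have ox := hF.omega hx.1 hx.2
  have ob := hF.omega hb.1.1 hb.1.2
  have oc := hF.omega hc.1.1 hc.1.2
  set t0 := pv φ b c with ht0
  set t1 := pv φ b (x * c * x⁻¹) with ht1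
  set t2 := pv φ b (x⁻¹ * c * x) with ht2
  have g0 : t0 * t0 = t0 + 1 := gold _ (Or.inl rfl)
  have g1 : t1 * t1 = t1 + 1 := gold _ (Or.inr (Or.inl rfl))
  have g2 : t2 * t2 = t2 + 1 := gold _ (Or.inr (Or.inr rfl))
  have hsum : t0 + t1 + t2 = 1 := by
    have hs := sum_conj_of_adjacent ox hc.2
    have hxb : pairVal (φ b) (φ x) = 1 := by rw [pairVal_comm]; exact hb.2
    have e : t0 + t1 + t2 = 3 + 3 * φ b + (φ c + φ x * φ c * (φ x * φ x) + φ x * φ x * φ c * φ x)
        + φ b * (φ c + φ x * φ c * (φ x * φ x) + φ x * φ x * φ c * φ x)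
        + (φ c + φ x * φ c * (φ x * φ x) + φ x * φ x * φ c * φ x) * φ b := by
      simp only [ht0, ht1, ht2, pv, pairVal, hx.inv_eq, map_mul,
        show (3 : Module.End K V) = 1 + 1 + 1 by norm_num, mul_add, add_mul, one_mul, mul_one,
        mul_assoc]
      abel
    rw [e, hs]
    have e2 : 3 + 3 * φ b + (-2 - φ x) + φ b * (-2 - φ x) + (-2 - φ x) * φ b =
        2 - pairVal (φ b) (φ x) := by
      simp only [pairVal, show (3 : Module.End K V) = 1 + 1 + 1 by norm_num,
        show (2 : Module.End K V) = 1 + 1 by norm_num, mul_sub, sub_mul, mul_neg, neg_mul, mul_add,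
        add_mul, one_mul, mul_one]
      abel
    rw [e2, hxb]; norm_num
  have hone : ∀ z : Module.End K V, 1 * z = z * 1 := fun z => by rw [one_mul, mul_one]
  have cx : Commute (φ x) t0 := commute_pairVal_of_central hb.2 hc.2 hone hone
  have cb : Commute (φ b) t0 := ob.commute_pairVal _
  have cc : Commute (φ c) t0 := by rw [ht0, pv, pairVal_comm]; exact oc.commute_pairVal _
  have ct : Commute t1 t0 := by
    rw [ht1, pv, hx.inv_eq, map_mul, map_mul, map_mul, pairVal]
    have cd := (cx.mul_left cc).mul_left (cx.mul_left cx)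
    exact ((((Commute.one_left _).add_left cb).add_left cd).add_left (cb.mul_left cd)).add_left
      (cd.mul_left cb)
  have hct : t1 * t0 = t0 * t1 := ct
  have e2 : t2 = 1 - t0 - t1 := by rw [← hsum]; abel
  have hp : t0 * t1 + t0 * t1 = -1 := by
    rw [e2] at g2
    simp only [sub_mul, mul_sub, one_mul, mul_one, g0, g1, hct] at g2
    rw [← sub_eq_zero] at g2 ⊢
    rw [← g2]; abel
  set u := t0 * t1 with hu
  have huu : u * u = u + t0 + t1 + 1 := by
    rw [hu, mul_assoc, ← mul_assoc t1 t0 t1, hct, mul_assoc, g1, ← mul_assoc, g0]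
    noncomm_ring
  have h4 : (4 : ℤ) • (t0 + t1) = -1 := by
    have h1 : (u + u) * (u + u) = 1 := by rw [hp]; simp
    simp only [add_mul, mul_add, huu] at h1
    have h2 : (4 : ℤ) • (t0 + t1) = (u + t0 + t1 + 1 + (u + t0 + t1 + 1) +
        (u + t0 + t1 + 1 + (u + t0 + t1 + 1))) - ((u + u) + (u + u)) - (4 : ℤ) • 1 := by abel
    rw [h2, h1, hp]; abel
  have h11 : (11 : ℤ) • (1 : Module.End K V) = 0 := by
    have h1 : ((4 : ℤ) • (t0 + t1)) * ((4 : ℤ) • (t0 + t1)) = 1 := by rw [h4]; simp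
    simp only [smul_mul_assoc, mul_smul_comm, smul_smul, add_mul, mul_add, g0, g1, hct] at h1
    have h2 : (4 : ℤ) • ((4 : ℤ) • (t0 + 1 + u) + (4 : ℤ) • (u + (t1 + 1))) =
        ((4 : ℤ) • ((4 : ℤ) • (t0 + t1))) + (16 : ℤ) • (u + u) + (32 : ℤ) • 1 := by
      abel
    rw [← hu, h2, h4, hp] at h1
    rw [← sub_eq_zero] at h1
    rw [← h1]; abel
  refine natCast_ne_zero' (K := K) (V := V) (n := 11) (by norm_num) ?_
  rw [← h11, zsmul_one]; norm_num

/-- Values 0 along a path of length two close up. -/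
theorem class_of_path {x b₁ b₂ b₃ : G} (hx : IsThree x) (h1 : Nb hF x b₁) (h2 : Nb hF x b₂)
    (h3 : Nb hF x b₃) (h12 : pv φ b₁ b₂ = 0) (h23 : pv φ b₂ b₃ = 0) : InClass x b₁ b₃ := by
  by_cases he : b₃ = b₁
  · exact Or.inl he
  have ox := hF.omega hx.1 hx.2
  have o0 : Omega (φ x * φ x) := ox.sq
  have o1 := hF.omega h1.1.1 h1.1.2
  have o2 := hF.omega h2.1.1 h2.1.2
  have o3 := hF.omega h3.1.1 h3.1.2
  have e0 : ∀ b, Nb hF x b → pairVal (φ x * φ x) (φ b) = 0 := fun b hb => by
    have := pv_sq_left hF hx b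
    rw [hb.2, sub_self, pv, map_mul] at this
    exact this
  rcases hF.pairVal_cases h1.1.1 h1.1.2 h3.1.1 h3.1.2 he
    (fun h => Nb.sq_not hF h1 (h ▸ h3)) with h | h | h
  · exfalso
    obtain ⟨-, hou, hcomm, hq⟩ := triangle_identity o0 o1 o2 o3 (e0 _ h1) (e0 _ h2) (e0 _ h3) h12 h h23
    set u : G := (b₁ * b₂) * (b₁ * b₂) * (b₁ * b₂ * b₃ * b₁ * b₂) with hu
    have hu' : φ u = -(φ b₁ * φ b₂ * φ b₃ * φ b₁ * φ b₂) := by
      rw [hu, map_mul, sq_of_pv_zero hF h1.1 h2.1 h12]
      simp only [map_mul, neg_mul, one_mul]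
    rw [← hu'] at hou hq
    have hcomm' : φ u * (φ x * φ x) = φ x * φ x * φ u := by rw [hu']; exact hcomm
    have hu3 : u ^ 3 = 1 := hF.injective (by
      rw [map_pow, map_one, pow_succ, pow_two]; exact hou.cube)
    have : Fact (Nat.Prime 3) := ⟨Nat.prime_three⟩
    have hmem := hF.mem_zpowers_of_commute hx.sq.orderOf_eq hu3
      (hF.injective (by rw [map_mul φ (x * x) u, map_mul φ u (x * x), map_mul φ x x]; exact hcomm'.symm))
    obtain ⟨k, hk⟩ := ((isOfFinOrder_of_finite (x * x)).mem_powers_iff_mem_zpowers.mpr hmem)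
    have hk' : u = (x * x) ^ (k % 3) := by
      rw [← hx.sq.orderOf_eq, pow_mod_orderOf]; exact hk.symm
    have hk3 : k % 3 = 0 ∨ k % 3 = 1 ∨ k % 3 = 2 := by omega
    rcases hk3 with hk3 | hk3 | hk3 <;> rw [hk3] at hk'
    · rw [pow_zero] at hk'
      have h' : (1 : Module.End K V) * 1 = -1 - 1 := by
        have := hou.eq'; rwa [hk', map_one] at this
      refine natCast_ne_zero' (K := K) (V := V) (n := 3) (by norm_num) ?_
      rw [one_mul, ← sub_eq_zero] at h'
      rw [← h']; push_cast; norm_num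
    · rw [pow_one] at hk'
      rw [hk', map_mul, e0 _ h1] at hq
      rw [mul_zero, zero_add] at hq
      exact zero_ne_one hq
    · rw [pow_two, hx.sq_sq] at hk'
      rw [hk', show pairVal (φ x) (φ b₁) = 1 from h1.2, one_mul] at hq
      exact one_ne_zero (left_eq_add.mp hq)
  · exact class_of_pv_one hF hx h1 h3 h
  · exfalso
    have hq := golden_identity o0 o1 o2 o3 (e0 _ h1) (e0 _ h2) (e0 _ h3) h12 h23 h
    simp only at hq
    set z : G := (x * x * b₁) * b₂ * (x * x * b₁)⁻¹ with hz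
    have hz' : φ z = φ x * φ x * φ b₁ * φ b₂ * (φ b₁ * φ b₁) * (φ x * φ x * (φ x * φ x)) := by
      rw [hz, mul_inv_rev, h1.1.inv_eq, hx.sq.inv_eq]
      simp only [map_mul, mul_assoc]
    rw [← hz'] at hq
    have hz3 : IsThree z := h2.1.conj _
    set g := pv φ b₁ b₃ with hg
    have hgg : g * g = g + 1 := h
    change pv φ z b₃ * pv φ z b₃ - pv φ z b₃ = 1 - g at hq
    have two_case : (2 : Module.End K V) = 1 - g → False := by
      intro hh
      have hg1 : g = -1 := by
        rw [← one_add_one_eq_two, eq_sub_iff_add_eq] at hh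
        rw [← sub_eq_zero] at hh ⊢
        rw [← hh]; abel
      rw [hg1] at hgg
      simp only [mul_neg, mul_one, neg_neg, neg_add_cancel] at hgg
      exact one_ne_zero hgg
    by_cases ha : z = b₃
    · rw [ha, pv_self hF h3.1] at hq
      refine two_case (hq ▸ ?_)
      rw [← one_add_one_eq_two]; simp
    by_cases hb : z = b₃ * b₃
    · rw [hb, pv_comm, pv_self_sq hF h3.1] at hq
      refine two_case (hq ▸ ?_)
      rw [← one_add_one_eq_two, add_mul, mul_add]; simp
    rcases hF.pairVal_cases h3.1.1 h3.1.2 hz3.1 hz3.2 ha hb with hh | hh | hh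
    · change pv φ b₃ z = 0 at hh
      rw [pv_comm] at hh
      rw [hh, mul_zero, sub_zero, eq_comm, sub_eq_zero] at hq
      rw [← hq, one_mul] at hgg
      exact one_ne_zero (left_eq_add.mp hgg)
    · change pv φ b₃ z = 1 at hh
      rw [pv_comm] at hh
      rw [hh, one_mul, sub_self, eq_comm, sub_eq_zero] at hq
      rw [← hq, one_mul] at hgg
      exact one_ne_zero (left_eq_add.mp hgg)
    · change pv φ b₃ z * pv φ b₃ z = pv φ b₃ z + 1 at hh
      rw [pv_comm] at hh
      rw [hh, add_sub_cancel_left] at hq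
      have hg0 : g = 0 := sub_eq_self.mp hq.symm
      rw [hg0, mul_zero, zero_add] at hgg
      exact zero_ne_one hgg

/-- The neighbours of an element form at most two classes. -/
theorem two_classes {x b : G} (hx : IsThree x) (hb : Nb hF x b) :
    (∀ c, Nb hF x c → InClass x b c) ∨ ∃ b', Nb hF x b' ∧ pv φ b b' = 0 ∧
      ∀ c, Nb hF x c → InClass x b c ∨ InClass x b' c := by
  by_cases h : ∀ c, Nb hF x c → InClass x b c
  · exact Or.inl h
  right
  simp only [not_forall] at h
  obtain ⟨c, hc, hnc⟩ := h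
  obtain ⟨b', hb', h0⟩ := (class_or_zero hF hx hb hc).resolve_left hnc
  have hb'n := Nb.class hF hc hb'
  refine ⟨b', hb'n, h0, fun d hd => ?_⟩
  rcases class_or_zero hF hx hb'n hd with h | ⟨d', hd', h0'⟩
  · exact Or.inr h
  · exact Or.inl (InClass.trans hx (class_of_path hF hx hb hb'n (Nb.class hF hd hd') h0 h0')
      (InClass.symm hx hd'))

/-- A golden partner gives two neighbours with value 0, and is a word in them. -/
theorem golden_neighbours {x y : G} (hx : IsThree x) (hy : IsThree y)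
    (h : pv φ x y * pv φ x y = pv φ x y + 1) :
    let A := y * x * y⁻¹
    let B := y⁻¹ * x * y
    Nb hF x (A * A) ∧ Nb hF x (B * B) ∧ pv φ (A * A) (B * B) = 0 ∧
      φ (x * A * B * x * A) = -φ y := by
  intro A B
  have ox := hF.omega hx.1 hx.2
  have hA3 : IsThree A := hx.conj y
  have hB3 : IsThree B := by simpa [B] using hx.conj y⁻¹
  have hA : pv φ x A = 0 := by
    rw [pv, show A = y * x * (y * y) from by rw [← hy.inv_eq], map_mul, map_mul, map_mul]
    exact adjacent_conj_of_golden ox (hF.omega hy.1 hy.2) h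
  have hB : pv φ x B = 0 := by
    rw [pv, show B = y * y * x * (y * y * (y * y)) from by rw [hy.sq_sq, ← hy.inv_eq],
      map_mul, map_mul, map_mul (f := φ) (x := y * y) (y := y * y)]
    refine adjacent_conj_of_golden ox (hF.omega hy.sq.1 hy.sq.2) ?_
    have := pv_sq_right hF x hy
    rw [pv, pv] at this
    rw [this]
    change (1 - pv φ x y) * (1 - pv φ x y) = 1 - pv φ x y + 1
    rw [sub_mul, one_mul, mul_sub, mul_one, h]
    abel
  refine ⟨⟨hA3.sq, by rw [pv_sq_right hF x hA3, hA, sub_zero]⟩,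
    ⟨hB3.sq, by rw [pv_sq_right hF x hB3, hB, sub_zero]⟩, ?_, ?_⟩
  · have h' := pv_conj_zero (g := y⁻¹) hA
    rw [show y⁻¹ * x * y⁻¹⁻¹ = B by simp only [B]; group, show y⁻¹ * A * y⁻¹⁻¹ = x by simp only [A]; group] at h'
    -- translate once more
    have h'' := pv_conj_zero (g := y⁻¹) h'
    rw [show y⁻¹ * x * y⁻¹⁻¹ = B by simp only [B]; group, show y⁻¹ * B * y⁻¹⁻¹ = A by
      show y⁻¹ * (y⁻¹ * x * y) * y⁻¹⁻¹ = y * x * y⁻¹
      rw [inv_inv, ← mul_assoc, ← mul_assoc, mul_assoc _ y y, ← hy.inv_eq]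
      congr 1; congr 1
      rw [hy.inv_eq, hy.sq_sq]] at h''
    rw [pv_sq_left hF hA3, pv_sq_right hF A hB3, h'', sub_zero, sub_self]
  · have e : x * A * B * x * A = (x * y) ^ 5 * y := by
      have hyy : y * y = y⁻¹ := hy.inv_eq.symm
      calc x * A * B * x * A = x * y * x * (y⁻¹ * y⁻¹) * x * y * x * y * x * y⁻¹ := by
            simp only [A, B]; group
        _ = x * y * x * y * x * y * x * y * x * (y * y) := by
            rw [hyy]; congr 1
            rw [← hyy, hy.sq_sq]
        _ = (x * y) ^ 5 * y := by simp only [pow_succ, pow_zero]; group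
    rw [e, map_mul, fifth_of_golden hF hx hy h, neg_one_mul]

end CfsgLib.Zassenhaus
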