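import Cfsg.Agent.Lib.Zassenhaus.Graph
import Cfsg.Agent.Lib.ConstStab.Basic
import Cfsg.Agent.Lib.InvChar.SmallSolvable
import Cfsg.Agent.Lib.Transfer.Central
import Cfsg.Agent.S0106
import Mathlib.GroupTheory.SpecificGroups.ZGroup

/-! Group theory of a perfect fixed point free group: Sylow subgroups and elements of order 3. -/

namespace CfsgLib.Zassenhaus

open Subgroup

/-- A perfect group has only the trivial homomorphism to a solvable group. -/
theorem map_eq_one_of_solvable {G H : Type*} [Group G] [Group H] [Group.IsSolvable H]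
    (hperf : commutator G = ⊤) (f : G →* H) (g : G) : f g = 1 := by
  obtain ⟨n, hn⟩ := (Group.isSolvable_def H).mp inferInstance
  have top : ∀ m, derivedSeries G m = ⊤ := by
    intro m
    induction m with
    | zero => exact derivedSeries_zero G
    | succ m ih => rw [derivedSeries_succ, ih]; exact hperf
  have h := map_derivedSeries_le_derivedSeries f n
  rw [top, hn] at h
  exact mem_bot.mp (h ⟨g, trivial, rfl⟩)

/-- A perfect group fixes every point of a set of at most four points. -/
theorem smul_eq_self_of_card_le_four {G X : Type*} [Group G] [MulAction G X] [Finite X]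
    (hperf : commutator G = ⊤) (h : Nat.card X ≤ 4) (g : G) (a : X) : g • a = a := by
  have := CfsgLib.InvCharSmall.isSolvable_perm_of_card_le_four h
  exact congrArg (fun σ : Equiv.Perm X => σ a)
    (map_eq_one_of_solvable hperf (MulAction.toPermHom G X) g)

variable {G : Type*} [Group G] [Finite G] {K : Type*} [Field K] [CharZero K] [IsAlgClosed K]
  [Algebra.IsAlgebraic ℚ K]
  {V : Type*} [AddCommGroup V] [Module K V] [FiniteDimensional K V] [Nontrivial V]
  {φ : G →* Module.End K V}

theorem involution_unique (hF : FPF φ) {a b : G} (ha : orderOf a = 2) (hb : orderOf b = 2) :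
    a = b := by
  have key : ∀ c : G, orderOf c = 2 → φ c = -1 := fun c hc => hF.involution
    (fun h => by rw [h, orderOf_one] at hc; exact absurd hc (by norm_num))
    (by rw [← pow_two, ← hc, pow_orderOf_eq_one])
  exact hF.injective ((key a ha).trans (key b hb).symm)

theorem isCyclic_sylow (hF : FPF φ) {p : ℕ} [Fact p.Prime] (hp : p ≠ 2) (P : Sylow p G) :
    IsCyclic (P : Subgroup G) := by
  refine CfsgLib.ConstStab.isCyclic_of_unique_prime_subgroup hp P.2 fun x y hx1 hx hy => ?_
  have : Nontrivial (P : Subgroup G) := ⟨x, 1, hx1⟩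
  have hpp := (Fact.out : p.Prime)
  obtain ⟨m, hm⟩ := (P.2.to_subgroup (center (P : Subgroup G))).exists_card_eq
  have hm0 : m ≠ 0 := by
    rintro rfl
    have := P.2.center_nontrivial
    rw [pow_zero] at hm
    exact (Finite.one_lt_card (α := center (P : Subgroup G))).ne' hm
  obtain ⟨⟨z, hzc⟩, hz⟩ := exists_prime_orderOf_dvd_card' (G := center (P : Subgroup G)) p
    (hm ▸ dvd_pow_self p hm0)
  rw [Subgroup.orderOf_mk] at hz
  have mem : ∀ w : (P : Subgroup G), w ^ p = 1 → w ∈ zpowers z := by
    intro w hw
    have h := hF.mem_zpowers_of_commute (p := p) (u := (z : G)) (v := (w : G))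
      (by rw [Subgroup.orderOf_coe]; exact hz)
      (by exact_mod_cast hw) (congrArg Subtype.val (mem_center_iff.mp hzc w)).symm
    obtain ⟨k, hk⟩ := mem_zpowers_iff.mp h
    exact mem_zpowers_iff.mpr ⟨k, Subtype.ext (by simpa using hk)⟩
  have hxo : orderOf x = p := orderOf_eq_prime hx hx1
  have hxz : zpowers x = zpowers z := Subgroup.eq_of_le_of_card_ge (zpowers_le.mpr (mem x hx))
    (by rw [Nat.card_zpowers, Nat.card_zpowers, hxo, hz])
  exact hxz ▸ mem y hy

/-- A perfect fixed point free group has no central element of order 3. -/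
theorem not_central_three (hF : FPF φ) (hperf : commutator G = ⊤) {x : G} (hx : IsThree x) :
    x ∉ center G := by
  intro hc
  have : Fact (Nat.Prime 3) := ⟨Nat.prime_three⟩
  obtain ⟨P, hP⟩ := (IsPGroup.of_card (p := 3) (n := 1) (G := zpowers x)
    (by rw [Nat.card_zpowers, hx.orderOf_eq, pow_one])).exists_le_sylow
  have := isCyclic_sylow hF (p := 3) (by norm_num) P
  exact hx.1 (CfsgLib.Transfer.eq_one_of_central_commutator (P : Subgroup G)
    IsCyclic.isMulCommutative P.card_coprime_index (hP (mem_zpowers x)) (hperf ▸ mem_top x) hc)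

theorem three_dvd_card_sl23 : 3 ∣ Nat.card (Matrix.SpecialLinearGroup (Fin 2) (ZMod 3)) := by
  rw [Nat.card_eq_fintype_card]
  decide +kernel

/-- A perfect nontrivial fixed point free group has an element of order 3. -/
theorem exists_three (hF : FPF φ) (hperf : commutator G = ⊤) [Nontrivial G] :
    ∃ x : G, IsThree x := by
  have notZ : ¬ IsZGroup G := fun h =>
    (IsZGroup.commutator_lt (G := G)).ne hperf
  have h2 : Fact (Nat.Prime 2) := ⟨Nat.prime_two⟩
  obtain ⟨P⟩ : Nonempty (Sylow 2 G) := inferInstance
  have h1 : ∀ a b : (P : Subgroup G), orderOf a = 2 → orderOf b = 2 → a = b := fun a b ha hb =>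
    Subtype.ext (involution_unique hF (by rwa [Subgroup.orderOf_coe])
      (by rwa [Subgroup.orderOf_coe]))
  rcases CfsgLib.TwoGroups.OneInvolution.isCyclic_or_quaternion P.2 h1 with hc | ⟨n, hn, he⟩
  · refine absurd ⟨fun p hp Q => ?_⟩ notZ
    have := Fact.mk hp
    by_cases hp2 : p = 2
    · subst hp2
      exact (P.equiv Q).isCyclic.1 hc
    · exact isCyclic_sylow hF hp2 Q
  · rcases Cfsg.Agent.S0106.result P n hn he with hN | ⟨H, L, hL, ⟨e⟩⟩
    · exfalso
      obtain ⟨Q, N, hN, hc⟩ := hN
      have hp : IsPGroup 2 (G ⧸ N) := by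
        obtain ⟨k, hk⟩ := Q.2.exists_card_eq
        refine IsPGroup.of_card (n := k) ?_
        rw [← Subgroup.index_eq_card, hc.symm.index_eq_card, hk]
      have := hp.isNilpotent
      have htop : N = ⊤ := eq_top_iff.mpr fun g _ => (QuotientGroup.eq_one_iff g).mp
        (map_eq_one_of_solvable hperf (QuotientGroup.mk' N) g)
      have hQ : Nat.card (Q : Subgroup G) = 1 := by rw [← hc.symm.index_eq_card, htop, index_top]
      have hQP := Nat.card_congr (Q.equiv P).toEquiv
      rw [hQ] at hQP
      obtain ⟨e⟩ := he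
      have : NeZero (2 ^ n) := ⟨(pow_pos two_pos n).ne'⟩
      rw [Nat.card_congr e.toEquiv, Nat.card_eq_fintype_card, QuaternionGroup.card] at hQP
      omega
    · have : (L.subgroupOf H).Normal := hL
      have h3 : 3 ∣ Nat.card (H ⧸ L.subgroupOf H) := by
        rw [Nat.card_congr e.toEquiv]
        exact three_dvd_card_sl23
      have h3' : 3 ∣ Nat.card G :=
        ((h3.trans (Subgroup.card_quotient_dvd_card _)).trans (Subgroup.card_subgroup_dvd_card H))
      have : Fact (Nat.Prime 3) := ⟨Nat.prime_three⟩
      obtain ⟨x, hx⟩ := exists_prime_orderOf_dvd_card' 3 h3'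
      refine ⟨x, fun h => ?_, by rw [← hx, pow_orderOf_eq_one]⟩
      rw [h, orderOf_one] at hx
      exact absurd hx (by norm_num)

/-- The elements of order 3 do not all lie in one subgroup of order 3. -/
theorem exists_three_not_mem (hF : FPF φ) (hperf : commutator G = ⊤) {x : G} (hx : IsThree x) :
    ∃ y : G, IsThree y ∧ y ≠ x ∧ y ≠ x * x := by
  by_contra hcon
  simp only [not_exists, not_and] at hcon
  have hall : ∀ y, IsThree y → y = x ∨ y = x * x := fun y hy => by
    by_cases h : y = x
    · exact Or.inl h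
    · exact Or.inr (not_not.mp (hcon y hy h))
  let act : MulAction G {y : G // IsThree y} :=
    { smul := fun g y => ⟨g * y.1 * g⁻¹, y.2.conj g⟩
      one_smul := fun y => Subtype.ext (by show 1 * y.1 * 1⁻¹ = y.1; group)
      mul_smul := fun g h y => Subtype.ext (by
        show g * h * y.1 * (g * h)⁻¹ = g * (h * y.1 * h⁻¹) * g⁻¹; group) }
  have hcard : Nat.card {y : G // IsThree y} ≤ 4 := by
    have hs : {y : G | IsThree y} ⊆ {x, x * x} := fun y hy => hall y hy
    calc Nat.card {y : G // IsThree y} = ({y : G | IsThree y}).ncard := rfl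
      _ ≤ ({x, x * x} : Set G).ncard := Set.ncard_le_ncard hs (Set.toFinite _)
      _ ≤ 2 := (Set.ncard_insert_le _ _).trans (by rw [Set.ncard_singleton])
      _ ≤ 4 := by norm_num
  refine not_central_three hF hperf hx (mem_center_iff.mpr fun g => ?_)
  have h := congrArg Subtype.val (smul_eq_self_of_card_le_four hperf hcard g ⟨x, hx⟩)
  change g * x * g⁻¹ = x at h
  calc g * x = g * x * g⁻¹ * g := by group
    _ = x * g := by rw [h]

end CfsgLib.Zassenhaus
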