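import Cfsg.Agent.Lib.Zassenhaus.Algebra
import Mathlib.LinearAlgebra.Semisimple
import Mathlib.LinearAlgebra.Eigenspace.Semisimple
import Mathlib.LinearAlgebra.Eigenspace.Triangularizable
import Mathlib.FieldTheory.IsAlgClosed.AlgebraicClosure
import Mathlib.RingTheory.Polynomial.Cyclotomic.Roots
import Mathlib.RingTheory.RootsOfUnity.Complex
import Mathlib.RingTheory.RootsOfUnity.PrimitiveRoots
import Mathlib.Analysis.Complex.Polynomial.Basic
import Mathlib.Analysis.SpecialFunctions.Complex.Circle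
import Mathlib.Analysis.SpecialFunctions.Trigonometric.Basic
import Mathlib.GroupTheory.OrderOfElement
import Mathlib.Tactic.LinearCombination

/-! Pairs of elements of order 3 in a fixed point free representation in characteristic 0. -/

open Polynomial

namespace CfsgLib.Zassenhaus

/-- Coprime `j` in the interval `(N/3, N/2]`. -/
theorem exists_coprime_mid {N : ℕ} (hN : 0 < N) (h : N ≠ 1 ∧ N ≠ 3 ∧ N ≠ 4 ∧ N ≠ 6 ∧ N ≠ 10) :
    ∃ j, Nat.Coprime j N ∧ N < 3 * j ∧ 2 * j ≤ N := by
  have key : ∀ j m : ℕ, Odd j → m ∣ 4 → (∀ d, d ∣ j → d ∣ N → d ∣ m) → Nat.Coprime j N := by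
    intro j m hj hm h'
    have h1 : Nat.gcd j N ∣ 4 := (h' _ (Nat.gcd_dvd_left j N) (Nat.gcd_dvd_right j N)).trans hm
    have h2 : Odd (Nat.gcd j N) := hj.of_dvd_nat (Nat.gcd_dvd_left j N)
    have h3 : Nat.gcd j N ≤ 4 := Nat.le_of_dvd (by norm_num) h1
    obtain ⟨k, hk⟩ := h2
    have : Nat.gcd j N = 1 ∨ Nat.gcd j N = 3 := by omega
    rcases this with h4 | h4
    · exact h4
    · rw [h4] at h1; norm_num at h1
  rcases Nat.even_or_odd N with ⟨t, ht⟩ | ⟨t, ht⟩
  · rcases Nat.even_or_odd t with ⟨u, hu⟩ | ⟨u, hu⟩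
    · refine ⟨2 * u - 1, key _ 2 ⟨u - 1, by omega⟩ (by norm_num) fun d hd hdN => ?_, by omega,
        by omega⟩
      have := Nat.dvd_sub hdN (hd.mul_left 2)
      rwa [show N - 2 * (2 * u - 1) = 2 by omega] at this
    · by_cases h2 : N = 2
      · exact ⟨1, Nat.coprime_one_left _, by omega, by omega⟩
      refine ⟨2 * u - 1, key _ 4 ⟨u - 1, by omega⟩ (by norm_num) fun d hd hdN => ?_, by omega,
        by omega⟩
      have := Nat.dvd_sub hdN (hd.mul_left 2)
      rwa [show N - 2 * (2 * u - 1) = 4 by omega] at this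
  · refine ⟨t, ?_, by omega, by omega⟩
    have h1 : Nat.gcd t N ∣ 1 := by
      have := Nat.dvd_sub (Nat.gcd_dvd_right t N) ((Nat.gcd_dvd_left t N).mul_left 2)
      rwa [show N - 2 * t = 1 by omega] at this
    exact Nat.dvd_one.mp h1

/-- `2 cos` of two roots of unity adding to 1. -/
theorem value_of_sum_eq_one {K : Type*} [Field K] [CharZero K] [Algebra.IsAlgebraic ℚ K] {ζ ζ' : K} {N M : ℕ} (hN : 0 < N) (hM : 0 < M)
    (hζ : IsPrimitiveRoot ζ N) (hζ' : ζ' ^ M = 1) (h : ζ + ζ⁻¹ + (ζ' + ζ'⁻¹) = 1) :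
    let c := ζ + ζ⁻¹
    (c - 2) * (c + 1) * c * (c - 1) * (c * c - c - 1) = 0 := by
  intro c
  have hζ0 : ζ ≠ 0 := hζ.ne_zero hN.ne'
  have hN' : N = 1 ∨ N = 3 ∨ N = 4 ∨ N = 6 ∨ N = 10 := by
    by_contra hcon
    simp only [not_or] at hcon
    obtain ⟨j, hj, hj3, hj2⟩ := exists_coprime_mid hN hcon
    have hη := Complex.isPrimitiveRoot_exp_of_coprime j N hN.ne' hj
    set η := Complex.exp (2 * Real.pi * Complex.I * (j / N)) with hηdef
    obtain ⟨σ, hσ⟩ : ∃ σ : K →ₐ[ℚ] ℂ, σ ζ = η := by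
      have h1 : η ∈ (minpoly ℚ ζ).rootSet ℂ := by
        rw [← cyclotomic_eq_minpoly_rat hζ hN, Polynomial.mem_rootSet]
        refine ⟨cyclotomic_ne_zero N ℚ, ?_⟩
        rw [aeval_def, eval₂_eq_eval_map, map_cyclotomic]
        exact (hη.isRoot_cyclotomic hN)
      rwa [← Algebra.IsAlgebraic.range_eval_eq_rootSet_minpoly ℂ ζ] at h1
    have hη' : ‖σ ζ'‖ = 1 := Complex.norm_eq_one_of_pow_eq_one
      (by rw [← map_pow, hζ', map_one]) hM.ne'
    have hnη : ‖η‖ = 1 := Complex.norm_eq_one_of_pow_eq_one hη.pow_eq_one hN.ne'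
    have heq := congrArg σ h
    rw [map_add, map_add, map_add, map_inv₀, map_inv₀, map_one, hσ,
      Complex.inv_eq_conj hnη, Complex.inv_eq_conj hη', Complex.add_conj, Complex.add_conj] at heq
    have heq' : 2 * η.re + 2 * (σ ζ').re = 1 := by exact_mod_cast heq
    have hre : (σ ζ').re ≤ 1 := (Complex.re_le_norm _).trans hη'.le
    have hcos : η.re < -(1 / 2) := by
      have harg : (2 * Real.pi * Complex.I * (j / N) : ℂ) =
          ((2 * Real.pi * (j / N) : ℝ) : ℂ) * Complex.I := by push_cast; ring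
      rw [hηdef, harg, Complex.exp_ofReal_mul_I_re]
      have hN0 : (0 : ℝ) < N := by exact_mod_cast hN
      have e1 : 2 * Real.pi / 3 < 2 * Real.pi * (j / N) := by
        rw [show 2 * Real.pi / 3 = 2 * Real.pi * (1 / 3) by ring]
        refine mul_lt_mul_of_pos_left ?_ (by positivity)
        rw [div_lt_div_iff₀ (by norm_num) hN0]
        exact_mod_cast (by omega : 1 * N < j * 3)
      have e2 : 2 * Real.pi * (j / N) ≤ Real.pi := by
        have : (j : ℝ) / N ≤ 1 / 2 := by
          rw [div_le_div_iff₀ hN0 (by norm_num)]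
          exact_mod_cast (by omega : j * 2 ≤ 1 * N)
        nlinarith [Real.pi_pos]
      have := Real.cos_lt_cos_of_nonneg_of_le_pi (by positivity) e2 e1
      rw [show 2 * Real.pi / 3 = Real.pi - Real.pi / 3 by ring, Real.cos_pi_sub,
        Real.cos_pi_div_three] at this
      linarith
    linarith
  have hp := hζ.pow_eq_one
  have neg1 : ∀ k, 0 < k → N = 2 * k → ζ ^ k = -1 := by
    intro k hk hNk
    have h2 : (ζ ^ k) ^ 2 = 1 := by rw [← pow_mul, mul_comm, ← hNk, hp]
    rcases (sq_eq_one_iff.mp h2) with h3 | h3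
    · exact absurd h3 (hζ.pow_ne_one_of_pos_of_lt hk.ne' (by omega))
    · exact h3
  rcases hN' with rfl | rfl | rfl | rfl | rfl
  · rw [pow_one] at hp
    have : c = 2 := by simp only [c, hp, inv_one]; norm_num
    simp [this]
  · have h1 : ζ ≠ 1 := hζ.ne_one (by norm_num)
    have h2 : ζ * ζ + ζ + 1 = 0 := by
      refine (mul_eq_zero.mp (show (ζ - 1) * (ζ * ζ + ζ + 1) = 0 from ?_)).resolve_left
        (sub_ne_zero.mpr h1)
      linear_combination hp
    have : c + 1 = 0 := by
      refine (mul_eq_zero.mp (show ζ * (c + 1) = 0 from ?_)).resolve_left hζ0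
      simp only [c]; linear_combination h2 + mul_inv_cancel₀ hζ0
    simp [this]
  · have h2 : ζ ^ 2 = -1 := neg1 2 (by norm_num) rfl
    have : c = 0 := by
      refine (mul_eq_zero.mp (show ζ * c = 0 from ?_)).resolve_left hζ0
      simp only [c]; linear_combination h2 + mul_inv_cancel₀ hζ0
    simp [this]
  · have h3 : ζ ^ 3 = -1 := neg1 3 (by norm_num) rfl
    have h4 : ζ + 1 ≠ 0 := fun he => hζ.pow_ne_one_of_pos_of_lt (l := 2) (by norm_num) (by norm_num)
      (by rw [eq_neg_of_add_eq_zero_left he]; ring)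
    have h2 : ζ * ζ - ζ + 1 = 0 := by
      refine (mul_eq_zero.mp (show (ζ + 1) * (ζ * ζ - ζ + 1) = 0 from ?_)).resolve_left h4
      linear_combination h3
    have : c - 1 = 0 := by
      refine (mul_eq_zero.mp (show ζ * (c - 1) = 0 from ?_)).resolve_left hζ0
      simp only [c]; linear_combination h2 + mul_inv_cancel₀ hζ0
    simp [this]
  · have h5 : ζ ^ 5 = -1 := neg1 5 (by norm_num) rfl
    have h4 : ζ + 1 ≠ 0 := fun he => hζ.pow_ne_one_of_pos_of_lt (l := 2) (by norm_num) (by norm_num)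
      (by rw [eq_neg_of_add_eq_zero_left he]; ring)
    have h2 : ζ ^ 4 - ζ ^ 3 + ζ ^ 2 - ζ + 1 = 0 := by
      refine (mul_eq_zero.mp
        (show (ζ + 1) * (ζ ^ 4 - ζ ^ 3 + ζ ^ 2 - ζ + 1) = 0 from ?_)).resolve_left h4
      linear_combination h5
    have : c * c - c - 1 = 0 := by
      refine (mul_eq_zero.mp (show ζ ^ 2 * (c * c - c - 1) = 0 from ?_)).resolve_left
        (pow_ne_zero 2 hζ0)
      simp only [c]
      linear_combination h2 + (2 * ζ ^ 2 + ζ * ζ⁻¹ + 1 - ζ) * mul_inv_cancel₀ hζ0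
    simp [this]

theorem add_inv_sub_two {R : Type*} [Ring R] {a e : R} (h : e * a = 1) :
    a + e - 2 = e * ((a - 1) * (a - 1)) := by
  simp only [sub_mul, mul_sub, mul_one, one_mul, ← mul_assoc, h]
  rw [← one_add_one_eq_two]
  abel

variable {G : Type*} [Group G] [Finite G] {K : Type*} [Field K] [CharZero K] [IsAlgClosed K]
  [Algebra.IsAlgebraic ℚ K]
  {V : Type*} [AddCommGroup V] [Module K V] [FiniteDimensional K V]

/-- A fixed point free linear action. -/
def FPF (φ : G →* Module.End K V) : Prop := ∀ g : G, g ≠ 1 → ∀ v : V, φ g v = v → v = 0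

variable {φ : G →* Module.End K V}

omit [IsAlgClosed K] [Algebra.IsAlgebraic ℚ K] [FiniteDimensional K V] [Finite G]
  [CharZero K] in
theorem FPF.apply_eq (hF : FPF φ) {g h : G} (hne : g ≠ h) {v : V} (hv : φ g v = φ h v) : v = 0 := by
  refine hF (h⁻¹ * g) (fun he => hne (inv_mul_eq_one.mp he).symm) v ?_
  rw [map_mul, Module.End.mul_apply, hv, ← Module.End.mul_apply, ← map_mul, inv_mul_cancel,
    map_one, Module.End.one_apply]

omit [IsAlgClosed K] [Algebra.IsAlgebraic ℚ K] [FiniteDimensional K V] [Finite G]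
  [CharZero K] in
theorem FPF.sub_mul_eq_zero (hF : FPF φ) {g h : G} (hne : g ≠ h) {w : Module.End K V}
    (hw : (φ g - φ h) * w = 0) : w = 0 := by
  refine LinearMap.ext fun v => hF.apply_eq hne ?_
  have := LinearMap.congr_fun hw v
  rwa [Module.End.mul_apply, LinearMap.sub_apply, LinearMap.zero_apply, sub_eq_zero] at this

omit [IsAlgClosed K] [Algebra.IsAlgebraic ℚ K] [FiniteDimensional K V] [Finite G]
  [CharZero K] in
theorem FPF.injective [Nontrivial V] (hF : FPF φ) : Function.Injective φ := by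
  intro g h he
  by_contra hne
  obtain ⟨v, hv⟩ := exists_ne (0 : V)
  exact hv (hF.apply_eq hne (by rw [he]))

omit [IsAlgClosed K] [Algebra.IsAlgebraic ℚ K] [FiniteDimensional K V] [Finite G]
  [CharZero K] in
theorem FPF.omega (hF : FPF φ) {x : G} (h1 : x ≠ 1) (h3 : x ^ 3 = 1) : Omega (φ x) := by
  have h : (φ x - φ 1) * (φ x * φ x + φ x + 1) = 0 := by
    have e : φ x * φ x * φ x = 1 := by
      rw [← map_mul, ← map_mul, ← pow_two, ← pow_succ, h3, map_one]
    rw [map_one]; noncomm_ring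
    rw [show φ x * (φ x * φ x) = 1 by rw [← mul_assoc]; exact e]
    simp
  have := hF.sub_mul_eq_zero h1 h
  show φ x * φ x = -1 - φ x
  rw [← sub_eq_zero, ← this]; abel

omit [IsAlgClosed K] [Algebra.IsAlgebraic ℚ K] [FiniteDimensional K V] [Finite G]
  [CharZero K] in
theorem FPF.involution (hF : FPF φ) {z : G} (h1 : z ≠ 1) (h2 : z * z = 1) : φ z = -1 := by
  have h : (φ z - φ 1) * (φ z + 1) = 0 := by
    rw [map_one, sub_mul, mul_add, ← map_mul, h2, map_one, mul_one, one_mul]; abel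
  exact eq_neg_of_add_eq_zero_left (hF.sub_mul_eq_zero h1 h)

omit [Algebra.IsAlgebraic ℚ K] in
/-- The eigenvectors of the image of an element of finite order span. -/
theorem iSup_eigenspace_eq_top (g : G) : ⨆ ζ : K, Module.End.eigenspace (φ g) ζ = ⊤ := by
  have hss : (φ g).IsSemisimple := by
    refine Module.End.isSemisimple_of_squarefree_aeval_eq_zero
      (p := X ^ orderOf g - 1) ?_ ?_
    · exact (X_pow_sub_one_separable_iff.mpr
        (by exact_mod_cast (orderOf_pos g).ne')).squarefree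
    · rw [map_sub, map_pow, aeval_X, map_one, ← map_pow, pow_orderOf_eq_one, map_one, sub_self]
  rw [← Module.End.iSup_maxGenEigenspace_eq_top (φ g)]
  refine iSup_congr fun ζ => ?_
  rw [hss.isFinitelySemisimple.maxGenEigenspace_eq_eigenspace]

omit [IsAlgClosed K] [Algebra.IsAlgebraic ℚ K] [FiniteDimensional K V] [CharZero K] in
theorem pow_orderOf_eigenvalue {g : G} {ζ : K} {v : V} (hv0 : v ≠ 0) (hv : φ g v = ζ • v) :
    ζ ^ orderOf g = 1 := by
  have h : ∀ n : ℕ, φ (g ^ n) v = ζ ^ n • v := by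
    intro n
    induction n with
    | zero => simp
    | succ n ih =>
      rw [pow_succ', map_mul, Module.End.mul_apply, ih, map_smul, hv, smul_smul, pow_succ]
  have h2 := h (orderOf g)
  rw [pow_orderOf_eq_one, map_one, Module.End.one_apply] at h2
  have h3 : (ζ ^ orderOf g - 1) • v = 0 := by rw [sub_smul, ← h2, one_smul, sub_self]
  exact sub_eq_zero.mp ((smul_eq_zero.mp h3).resolve_right hv0)

omit [Algebra.IsAlgebraic ℚ K] in
/-- If `φ g + φ g⁻¹` scales a nonzero vector then some eigenvalue of `φ g` gives the scalar. -/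
theorem exists_eigenvalue_of_sum {g : G} {c : K} {v : V} (hv0 : v ≠ 0)
    (hv : φ g v + φ g⁻¹ v = c • v) : ∃ ζ : K, ζ ^ orderOf g = 1 ∧ ζ + ζ⁻¹ = c := by
  obtain ⟨r, hr⟩ := IsAlgClosed.exists_root (X ^ 2 - C c * X + 1 : K[X])
    (by
      have : (X ^ 2 - C c * X + 1 : K[X]).natDegree = 2 := by compute_degree!
      intro h
      rw [degree_eq_natDegree (fun h0 => by simp [h0] at this), this] at h
      exact absurd h (by norm_num))
  have hr' : r ^ 2 - c * r + 1 = 0 := by simpa [IsRoot] using hr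
  have hr0 : r ≠ 0 := fun h => by rw [h] at hr'; simp at hr'
  have hrc : r + r⁻¹ = c := by
    refine mul_left_cancel₀ hr0 ?_
    rw [mul_add, mul_inv_cancel₀ hr0]; linear_combination hr'
  by_cases hw : φ g v = r • v
  · exact ⟨r, pow_orderOf_eigenvalue hv0 hw, hrc⟩
  · set w := φ g v - r • v with hwdef
    have hgg : φ g (φ g v) = c • φ g v - v := by
      have := congrArg (φ g) hv
      rw [map_add, ← Module.End.mul_apply (f := φ g) (g := φ g⁻¹), ← map_mul, mul_inv_cancel,
        map_one, Module.End.one_apply, map_smul] at this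
      exact eq_sub_of_add_eq this
    have hgw : φ g w = r⁻¹ • w := by
      rw [hwdef, map_sub, map_smul, hgg, ← hrc, smul_sub, smul_smul, inv_mul_cancel₀ hr0,
        add_smul, one_smul]
      abel
    exact ⟨r⁻¹, pow_orderOf_eigenvalue (sub_ne_zero.mpr hw) hgw, by rw [inv_inv, add_comm, hrc]⟩

/-- The values of pairs of elements of order 3. -/
theorem FPF.pairVal_poly (hF : FPF φ) {x y : G} (hx1 : x ≠ 1) (hx : x ^ 3 = 1) (hy1 : y ≠ 1)
    (hy : y ^ 3 = 1) :
    let s := pairVal (φ x) (φ y)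
    (s - 2) * ((s + 1) * (s * ((s - 1) * (s * s - s - 1)))) = 0 := by
  intro s
  have ox := hF.omega hx1 hx
  have oy := hF.omega hy1 hy
  have inv3 : ∀ z : G, z ^ 3 = 1 → z⁻¹ = z * z := fun z hz =>
    inv_eq_of_mul_eq_one_right (by rw [← mul_assoc, ← pow_two, ← pow_succ, hz])
  have hs : φ (x * y) + φ (x * y)⁻¹ = s := by
    rw [mul_inv_rev, inv3 x hx, inv3 y hy]
    simp only [map_mul]
    exact ox.pairVal_eq oy
  have hs' : φ (x * (y * y)) + φ (x * (y * y))⁻¹ = 1 - s := by
    have h : (y * y)⁻¹ = (y * y) * (y * y) := inv3 _ (by rw [← pow_two, ← pow_mul,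
      show 2 * 3 = 3 * 2 by norm_num, pow_mul, hy, one_pow])
    rw [mul_inv_rev, inv3 x hx, h]
    simp only [map_mul]
    rw [ox.pairVal_eq oy.sq, oy.pairVal_sq]
  have key : ∀ ζ : K, Module.End.eigenspace (φ (x * y)) ζ ≤ LinearMap.ker
      ((s - 2) * ((s + 1) * (s * ((s - 1) * (s * s - s - 1))))) := by
    intro ζ v hv
    rw [Module.End.mem_eigenspace_iff] at hv
    rw [LinearMap.mem_ker]
    by_cases hv0 : v = 0
    · rw [hv0, map_zero]
    have hζN := pow_orderOf_eigenvalue hv0 hv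
    have hζ0 : ζ ≠ 0 := fun h => by
      rw [h, zero_pow (orderOf_pos _).ne'] at hζN; exact zero_ne_one hζN
    have hinv : φ (x * y)⁻¹ v = ζ⁻¹ • v := by
      have h1 := congrArg (φ (x * y)⁻¹) hv
      rw [← Module.End.mul_apply, ← map_mul, inv_mul_cancel, map_one, Module.End.one_apply,
        map_smul] at h1
      conv_rhs => rw [h1, smul_smul, inv_mul_cancel₀ hζ0, one_smul]
    set c := ζ + ζ⁻¹ with hc
    have hsv : s v = c • v := by rw [← hs, LinearMap.add_apply, hv, hinv, hc, add_smul]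
    have hs'v : φ (x * (y * y)) v + φ (x * (y * y))⁻¹ v = (1 - c) • v := by
      rw [← LinearMap.add_apply, hs', LinearMap.sub_apply, Module.End.one_apply, hsv, sub_smul,
        one_smul]
    obtain ⟨ζ', hζ'N, hζ'⟩ := exists_eigenvalue_of_sum hv0 hs'v
    have hprim : IsPrimitiveRoot ζ (orderOf ζ) := IsPrimitiveRoot.orderOf ζ
    have hpos : 0 < orderOf ζ := (isOfFinOrder_iff_pow_eq_one.mpr
      ⟨_, orderOf_pos (x * y), hζN⟩).orderOf_pos
    have hval := value_of_sum_eq_one hpos (orderOf_pos _) hprim hζ'N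
      (by rw [hζ', ← hc]; ring)
    have ev : ∀ (a : K) (w : V), s w = a • w →
        ((s - 2) * ((s + 1) * (s * ((s - 1) * (s * s - s - 1))))) w =
          ((a - 2) * (a + 1) * a * (a - 1) * (a * a - a - 1)) • w := by
      intro a w hw
      have h2 : (2 : Module.End K V) w = (2 : K) • w := by
        rw [← one_add_one_eq_two, LinearMap.add_apply, Module.End.one_apply,
          ← one_add_one_eq_two, add_smul, one_smul]
      simp only [Module.End.mul_apply, LinearMap.sub_apply, LinearMap.add_apply,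
        Module.End.one_apply, h2, hw, map_smul, map_sub, map_add]
      module
    rw [ev c v hsv, hval, zero_smul]
  have h := iSup_le key
  rw [iSup_eigenspace_eq_top] at h
  exact LinearMap.ker_eq_top.mp (top_le_iff.mp h)

/-- Two non-commuting elements of order 3 have value `0`, `1` or a root of `s² = s + 1`. -/
theorem FPF.pairVal_cases (hF : FPF φ) {x y : G} (hx1 : x ≠ 1) (hx : x ^ 3 = 1) (hy1 : y ≠ 1)
    (hy : y ^ 3 = 1) (hne : y ≠ x) (hne' : y ≠ x * x) :
    pairVal (φ x) (φ y) = 0 ∨ pairVal (φ x) (φ y) = 1 ∨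
      pairVal (φ x) (φ y) * pairVal (φ x) (φ y) = pairVal (φ x) (φ y) + 1 := by
  have hP := hF.pairVal_poly hx1 hx hy1 hy
  simp only at hP
  have ox := hF.omega hx1 hx
  have oy := hF.omega hy1 hy
  have inv3 : ∀ z : G, z ^ 3 = 1 → z⁻¹ = z * z := fun z hz =>
    inv_eq_of_mul_eq_one_right (by rw [← mul_assoc, ← pow_two, ← pow_succ, hz])
  set s := pairVal (φ x) (φ y) with hs
  -- cancel `s - 2`
  have hg1 : x * y ≠ 1 := fun h => hne' (by rw [← inv3 x hx]; exact eq_inv_of_mul_eq_one_right h)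
  have e2 : s - 2 = φ (x * y)⁻¹ * ((φ (x * y) - φ 1) * (φ (x * y) - φ 1)) := by
    have hs' : φ (x * y) + φ (x * y)⁻¹ = s := by
      rw [mul_inv_rev, inv3 x hx, inv3 y hy]
      simp only [map_mul]
      exact ox.pairVal_eq oy
    rw [← hs', map_one]
    exact add_inv_sub_two (by rw [← map_mul, inv_mul_cancel, map_one])
  have cancel : ∀ (g : G), g ≠ 1 → ∀ w : Module.End K V,
      φ g⁻¹ * ((φ g - φ 1) * (φ g - φ 1)) * w = 0 → w = 0 := by
    intro g hg w hw
    have h := congrArg (φ g * ·) hw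
    simp only [mul_zero, ← mul_assoc, ← map_mul, mul_inv_cancel, map_one, one_mul] at h
    rw [mul_assoc, ← map_one φ] at h
    exact hF.sub_mul_eq_zero hg (hF.sub_mul_eq_zero hg h)
  have h1 : (s + 1) * (s * ((s - 1) * (s * s - s - 1))) = 0 := cancel _ hg1 _ (by rw [← e2]; exact hP)
  -- cancel `s + 1`
  have hg2 : x * (y * y) ≠ 1 := fun h => hne (by
    have : y * y = x * x := by rw [← inv3 x hx]; exact eq_inv_of_mul_eq_one_right h
    calc y = (y * y) * (y * y) := by rw [← inv3 _ (by rw [← pow_two, ← pow_mul,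
          show 2 * 3 = 3 * 2 by norm_num, pow_mul, hy, one_pow]), ← inv3 y hy, inv_inv]
      _ = (x * x) * (x * x) := by rw [this]
      _ = x := by rw [← mul_assoc, ← pow_two, ← pow_succ, hx, one_mul])
  have e3 : -(s + 1) =
      φ (x * (y * y))⁻¹ * ((φ (x * (y * y)) - φ 1) * (φ (x * (y * y)) - φ 1)) := by
    have hs' : φ (x * (y * y)) + φ (x * (y * y))⁻¹ = 1 - s := by
      have h : (y * y)⁻¹ = (y * y) * (y * y) := inv3 _ (by rw [← pow_two, ← pow_mul,
        show 2 * 3 = 3 * 2 by norm_num, pow_mul, hy, one_pow])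
      rw [mul_inv_rev, inv3 x hx, h]
      simp only [map_mul]
      rw [ox.pairVal_eq oy.sq, oy.pairVal_sq]
    rw [show -(s + 1) = (1 - s) - 2 by rw [← one_add_one_eq_two]; abel, ← hs', map_one]
    exact add_inv_sub_two (by rw [← map_mul, inv_mul_cancel, map_one])
  have h2 : s * ((s - 1) * (s * s - s - 1)) = 0 :=
    cancel _ hg2 _ (by rw [← e3, neg_mul, h1, neg_zero])
  -- separate the three possibilities
  set g := x * y with hg
  have hsg : s = φ g + φ g⁻¹ := by
    rw [hg, mul_inv_rev, inv3 x hx, inv3 y hy]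
    simp only [map_mul]
    exact (ox.pairVal_eq oy).symm
  have rule : ∀ (g : G) (w : Module.End K V), (φ g + φ g⁻¹) * w = 0 → w ≠ 0 →
      φ g + φ g⁻¹ = 0 := by
    intro g w hw hw0
    have hgg : φ (g * g) * w = -w := by
      have h := congrArg (φ g * ·) hw
      simp only [← mul_assoc, mul_add, ← map_mul, mul_inv_cancel, map_one, mul_zero, add_mul,
        one_mul] at h
      exact eq_neg_of_add_eq_zero_left h
    have h4 : g * g * (g * g) = 1 := by
      by_contra h4
      refine hw0 (hF.sub_mul_eq_zero h4 ?_)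
      rw [sub_mul, map_mul, mul_assoc, hgg, mul_neg, hgg, neg_neg, map_one, one_mul, sub_self]
    have h2 : g * g ≠ 1 := by
      intro h2
      rw [h2, map_one, one_mul] at hgg
      refine hw0 ?_
      have h3 : (2 : K) • w = 0 := by rw [two_smul]; exact eq_neg_iff_add_eq_zero.mp hgg
      exact (smul_eq_zero.mp h3).resolve_left two_ne_zero
    have hm := hF.involution h2 h4
    have : φ g⁻¹ = -φ g := by
      have h := congrArg (φ g⁻¹ * ·) hm
      simp only [← map_mul, inv_mul_cancel_left, mul_neg, mul_one] at h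
      rw [h, neg_neg]
    rw [this, add_neg_cancel]
  by_cases hw : (s - 1) * (s * s - s - 1) = 0
  swap
  · left; rw [hsg]; exact rule g _ (hsg ▸ h2) hw
  by_cases hu : s * s - s - 1 = 0
  · right; right; exact (sub_eq_iff_eq_add.mp (sub_eq_zero.mp hu)).trans (add_comm _ _)
  · right; left
    have hs' : φ (x * (y * y)) + φ (x * (y * y))⁻¹ = 1 - s := by
      have h : (y * y)⁻¹ = (y * y) * (y * y) := inv3 _ (by rw [← pow_two, ← pow_mul,
        show 2 * 3 = 3 * 2 by norm_num, pow_mul, hy, one_pow])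
      rw [mul_inv_rev, inv3 x hx, h]
      simp only [map_mul]
      rw [ox.pairVal_eq oy.sq, oy.pairVal_sq]
    have := rule (x * (y * y)) _ (by
      rw [hs', ← neg_sub, neg_mul, hw, neg_zero]) hu
    rw [hs', sub_eq_zero] at this
    exact this.symm

/-- Commuting elements of the same prime order generate the same subgroup. -/
theorem FPF.mem_zpowers_of_commute [Nontrivial V] (hF : FPF φ) {p : ℕ} [Fact p.Prime] {u v : G}
    (hu : orderOf u = p) (hv : v ^ p = 1) (hc : u * v = v * u) : v ∈ Subgroup.zpowers u := by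
  obtain ⟨ζ, hζ⟩ := Module.End.exists_eigenvalue (φ u)
  set E := Module.End.eigenspace (φ u) ζ with hE
  obtain ⟨w₀, hw₀⟩ := hζ.exists_hasEigenvector
  have hinv : ∀ w ∈ E, φ v w ∈ E := by
    intro w hw
    rw [hE, Module.End.mem_eigenspace_iff] at hw ⊢
    rw [← Module.End.mul_apply, ← map_mul, hc, map_mul, Module.End.mul_apply, hw, map_smul]
  have : Nontrivial E := Submodule.nontrivial_iff_ne_bot.mpr hζ
  obtain ⟨η, hη⟩ := Module.End.exists_eigenvalue ((φ v).restrict hinv)
  obtain ⟨w, hw⟩ := hη.exists_hasEigenvector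
  have hwv : φ v (w : V) = η • (w : V) := by
    have := congrArg Subtype.val (Module.End.mem_eigenspace_iff.mp hw.1)
    simpa using this
  have hwu : φ u (w : V) = ζ • (w : V) := Module.End.mem_eigenspace_iff.mp w.2
  have hw0 : (w : V) ≠ 0 := fun h => hw.2 (Subtype.ext h)
  have hp := (Fact.out : p.Prime)
  have hζp : ζ ^ p = 1 := hu ▸ pow_orderOf_eigenvalue hw0 hwu
  have hζ1 : ζ ≠ 1 := by
    intro h
    rw [h, one_smul] at hwu
    refine hw0 (hF u (fun h1 => hp.one_lt.ne ?_) _ hwu)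
    rw [← hu, h1, orderOf_one]
  have hprim : IsPrimitiveRoot ζ p := by
    have := orderOf_eq_prime hζp hζ1
    rw [← this]; exact IsPrimitiveRoot.orderOf ζ
  have hηp : η ^ p = 1 := by
    obtain ⟨k, hk⟩ := orderOf_dvd_of_pow_eq_one hv
    rw [hk, pow_mul, pow_orderOf_eigenvalue hw0 hwv, one_pow]
  obtain ⟨i, -, hi⟩ := hprim.eq_pow_of_pow_eq_one hηp
  have hpow : ∀ n : ℕ, φ (u ^ n) (w : V) = ζ ^ n • (w : V) := by
    intro n
    induction n with
    | zero => simp
    | succ n ih =>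
      rw [pow_succ', map_mul, Module.End.mul_apply, ih, map_smul, hwu, smul_smul, pow_succ]
  by_contra hmem
  refine hw0 (hF.apply_eq (g := v) (h := u ^ i) (fun h => hmem ?_) ?_)
  · rw [h]; exact Subgroup.npow_mem_zpowers u i
  · rw [hwv, hpow, hi]

end CfsgLib.Zassenhaus
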